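import Cfsg.Agent.MaxNorm.Odd
import Cfsg.Agent.MaxNorm.Four
import Cfsg.Agent.SmallSimple.OneSixtyEightMax
import Cfsg.Agent.Dickson.ElevenA5

/-!
# The socle is `PSL₂(13)` and is the whole group
-/

set_option autoImplicit false
set_option linter.style.haveILetI false
set_option linter.unusedSectionVars false

namespace CfsgLib.MaxNorm

open Subgroup
open CfsgLib.Linear.SmallSub (P2 proj)

universe u

theorem altFive_triple : ∃ a b c : alternatingGroup (Fin 5), a * a = 1 ∧ b * b = 1 ∧ a * b = b * a ∧ a ≠ 1 ∧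
    b ≠ 1 ∧ a ≠ b ∧ c ^ 3 = 1 ∧ c ≠ 1 ∧ c * a * c⁻¹ = b ∧ c * b * c⁻¹ = a * b := by
  decide +kernel

variable {G : Type u} [Group G] [Finite G] {T : Subgroup G} (hS : Setting T)

include hS

theorem Setting.conj_involutions {F : Type} [Field F] [Fintype F] (e : T ≃* P2 F)
    (hodd : Odd (Fintype.card F)) {u w : G} (huT : u ∈ T) (hu : orderOf u = 2) (hwT : w ∈ T)
    (hw : orderOf w = 2) : ∃ k ∈ T, k * u * k⁻¹ = w := by
  have h2 : ∀ c (hc : c ∈ T), orderOf c = 2 → e ⟨c, hc⟩ * e ⟨c, hc⟩ = 1 ∧ e ⟨c, hc⟩ ≠ 1 := fun c hc h => by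
    have h' : orderOf (e ⟨c, hc⟩) = 2 := by rw [MulEquiv.orderOf_eq, ← orderOf_coe]; exact h
    exact ⟨mul_self_two h', ne_one_of_two h'⟩
  obtain ⟨k, hk⟩ := isConj_iff.1 (CfsgLib.Linear.FourGroups.involutions_conj hodd (h2 u huT hu).1 (h2 u huT hu).2
    (h2 w hwT hw).1 (h2 w hwT hw).2)
  refine ⟨((e.symm k : T) : G), (e.symm k).2, ?_⟩
  have h : e.symm k * ⟨u, huT⟩ * (e.symm k)⁻¹ = ⟨w, hwT⟩ := e.injective (by simpa using hk)
  exact congrArg Subtype.val h

/-- In the odd case the centraliser of `t` lies in `T`. -/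
theorem Pair.centralizer_le {t x : G} {r : ℕ} (hp : Pair T t x r) {F : Type} [Field F] [Fintype F]
    (e : T ≃* P2 F) (hodd : Odd (Fintype.card F)) (hpr : (Fintype.card F).Prime) :
    centralizer ({t} : Set G) ≤ T := by
  classical
  haveI : Fact (Nat.Prime 2) := ⟨Nat.prime_two⟩
  obtain ⟨s, n, S, hnT, hsT, hs, hcts, hne, hinv, hS2, hSle, htS, hsS, hfour, hnt, hns, hnu, hmem⟩ :=
    hp.exists_four hS
  intro h hh
  set H := T ⊓ centralizer ({t} : Set G) with hH
  have hht : Commute h t := mem_centralizer_singleton_iff.1 hh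
  have hconjH : ∀ w ∈ H, h * w * h⁻¹ ∈ H := fun w hw => ⟨hS.normal.conj_mem w hw.1 h,
    (centralizer ({t} : Set G)).mul_mem ((centralizer ({t} : Set G)).mul_mem hh hw.2)
      ((centralizer ({t} : Set G)).inv_mem hh)⟩
  set S₀ := S.subgroupOf H with hS₀
  have hS₀2 : IsPGroup 2 S₀ := hS2.of_equiv (subgroupOfEquivOfLe hSle).symm
  have hidx : ¬ 2 ∣ S₀.index := two_not_dvd_index hS₀2 fun a ha ⟨m, hm⟩ =>
    mem_subgroupOf.2 (hmem a a.2.1
      (fun b hb => mem_subgroupOf.1 ((mem_normalizer_iff.1 ha ⟨b, hSle hb⟩).1 (mem_subgroupOf.2 hb)))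
      ⟨m, by rw [orderOf_coe, hm]⟩)
  set P : Sylow 2 H := hS₀2.toSylow hidx with hP
  have hS'H : S.map (MulAut.conj h).toMonoidHom ≤ H := by
    rintro _ ⟨w, hw, rfl⟩
    exact hconjH w (hSle hw)
  obtain ⟨R, hR⟩ := ((hS2.map (MulAut.conj h).toMonoidHom).of_equiv
    (subgroupOfEquivOfLe hS'H).symm).exists_le_sylow
  obtain ⟨k, hk⟩ := MulAction.exists_smul_eq H R P
  set m := (k : G) * h with hm
  have hmS : ∀ w ∈ S, m * w * m⁻¹ ∈ S := by
    intro w hw
    have h' : k * ⟨h * w * h⁻¹, hconjH w (hSle hw)⟩ * k⁻¹ ∈ (P : Subgroup H) := by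
      rw [← hk, Sylow.coe_subgroup_smul]
      exact ⟨_, hR (mem_subgroupOf.2 ⟨w, hw, rfl⟩), rfl⟩
    rw [hP, IsPGroup.toSylow_coe] at h'
    have h'' := mem_subgroupOf.1 h'
    simp only [Subgroup.coe_mul, Subgroup.coe_inv] at h''
    rw [hm]
    rwa [show (k : G) * h * w * ((k : G) * h)⁻¹ = (k : G) * (h * w * h⁻¹) * (k : G)⁻¹ by group]
  have hmt : Commute m t := (show Commute (k : G) t from mem_centralizer_singleton_iff.1 k.2.2).mul_left hht
  have hmN : m ∈ normalizer (zpowers x : Set G) := by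
    rw [hp.normalizer_eq hS]
    exact mem_centralizer_singleton_iff.2 hmt.eq
  have hms : Commute m s := by
    obtain ⟨i, hi⟩ := hS.conj_eq_pow_mul hp.hxT hsT hp.hr hp.hr2 hp.hx hs hinv hmN
    rcases hfour _ (hmS s hsS) with h1 | h1 | h1 | h1
    · exact absurd (conj_eq_one_iff.1 h1) (ne_one_of_two hs)
    · exact absurd (mul_left_cancel (mul_right_cancel (h1.trans hmt.mul_inv_cancel.symm))) hne
    · exact mul_inv_eq_iff_eq_mul.1 h1
    · exfalso
      have h2 : x ^ i = t := mul_right_cancel (hi.symm.trans h1)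
      have h3 := Subgroup.orderOf_dvd_natCard _ (zpow_mem (mem_zpowers x) i)
      rw [h2, hp.ht, Nat.card_zpowers, hp.hx, Nat.prime_dvd_prime_iff_eq Nat.prime_two hp.hr] at h3
      exact hp.hr2 h3.symm
  have hmT : m ∈ T := by
    have h' := hS.centralizer_four e hodd hpr (a := ⟨t, hp.htT⟩) (b := ⟨s, hsT⟩)
      (by rw [← orderOf_coe]; exact hp.ht) (by rw [← orderOf_coe]; exact hs) (Subtype.ext hcts.eq)
      (fun h => hne (congrArg Subtype.val h).symm) hmt hms
    rcases h' with h' | h' | h' | h' <;> rw [h']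
    exacts [one_mem _, hp.htT, hsT, mul_mem hp.htT hsT]
  rw [show h = (k : G)⁻¹ * m by rw [hm, inv_mul_cancel_left]]
  exact mul_mem (inv_mem k.2.1) hmT

/-- The case `q = 11`. -/
theorem Setting.not_eleven {F : Type} [Field F] [Fintype F] (e : T ≃* P2 F) (hF : Fintype.card F = 11)
    (hT : T = ⊤) : False := by
  classical
  have hodd : Odd (Fintype.card F) := ⟨5, by rw [hF]; rfl⟩
  have hpr : (Fintype.card F).Prime := by rw [hF]; norm_num
  obtain ⟨H, ⟨eH⟩⟩ := CfsgLib.Dickson.Eleven.exists_altFive (F := F) (by rw [Nat.card_eq_fintype_card, hF])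
  obtain ⟨a, b, c, ha, hb, hab, ha1, hb1, hne, hc3, hc1, hca, hcb⟩ := altFive_triple
  let f : alternatingGroup (Fin 5) →* G :=
    T.subtype.comp (e.symm.toMonoidHom.comp (H.subtype.comp eH.symm.toMonoidHom))
  have hf : Function.Injective f :=
    T.subtype_injective.comp (e.symm.injective.comp (H.subtype_injective.comp eH.symm.injective))
  have hfT : ∀ y, f y ∈ T := fun y => (e.symm (eH.symm y : P2 F)).2
  set H' := f.range with hH'
  have hH'c : Nat.card H' = 60 := by
    rw [hH', ← Nat.card_congr (MonoidHom.ofInjective hf).toEquiv, Nat.card_eq_fintype_card]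
    decide +kernel
  have haG : f a * f a = 1 := by rw [← map_mul, ha, map_one]
  have hbG : f b * f b = 1 := by rw [← map_mul, hb, map_one]
  have habG : Commute (f a) (f b) := by show _ = _; rw [← map_mul, hab, map_mul]
  have ha1G : f a ≠ 1 := (map_ne_one_iff f hf).2 ha1
  have hb1G : f b ≠ 1 := (map_ne_one_iff f hf).2 hb1
  have hneG : f a ≠ f b := fun h => hne (hf h)
  obtain ⟨hVT, hco⟩ := hS.coatom_four (ha := haG) (hb := hbG) (hab := habG) (hfT a) (hfT b) ha1G hb1G hneG
  set V := four (f a) (f b) haG hbG habG with hV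
  have hC := hS.centralizer_four_le e hodd hpr (ha := haG) (hb := hbG) (hab := habG) (hfT a) (hfT b) ha1G hb1G
    hneG
  set N := normalizer (V : Set G) with hN
  have hle24 : Nat.card N ≤ 24 := card_normalizer_le (card_four ha1G hb1G hneG) hC
  have hG660 : Nat.card G = 660 := by
    have h3 : 2 * Nat.card T = _ :=
      (congrArg (2 * ·) (Nat.card_congr e.toEquiv)).trans (CfsgLib.PSL2Classes.card_P2_mul hodd)
    rw [hT, Subgroup.card_top, hF] at h3
    norm_num at h3
    omega
  have hNd : Nat.card N ∣ 660 := hG660 ▸ N.card_subgroup_dvd_card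
  have hVN : V ≤ N ⊓ H' := by
    refine le_inf le_normalizer ?_
    rintro g (rfl | rfl | rfl | rfl)
    exacts [one_mem _, ⟨a, rfl⟩, ⟨b, rfl⟩, mul_mem ⟨a, rfl⟩ ⟨b, rfl⟩]
  have hcN : f c ∈ N ⊓ H' := by
    refine ⟨?_, ⟨c, rfl⟩⟩
    have e1 : f c * f a * (f c)⁻¹ = f b := by rw [← map_inv, ← map_mul, ← map_mul, hca]
    have e2 : f c * f b * (f c)⁻¹ = f a * f b := by rw [← map_inv, ← map_mul, ← map_mul, hcb, map_mul]
    refine mem_normalizer_of_conj_mem ?_
    rintro g (rfl | rfl | rfl | rfl)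
    · simp
    · exact Or.inr (Or.inr (Or.inl e1))
    · exact Or.inr (Or.inr (Or.inr e2))
    · rw [show f c * (f a * f b) * (f c)⁻¹ = (f c * f a * (f c)⁻¹) * (f c * f b * (f c)⁻¹) by group, e1, e2]
      exact mul_mem (Or.inr (Or.inr (Or.inl rfl))) (Or.inr (Or.inr (Or.inr rfl)))
  have h4 : 4 ∣ Nat.card (N ⊓ H' : Subgroup G) := card_four ha1G hb1G hneG ▸ card_dvd_of_le hVN
  have h3 : 3 ∣ Nat.card (N ⊓ H' : Subgroup G) := by
    haveI := Fact.mk Nat.prime_three
    have : orderOf (f c) = 3 :=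
      orderOf_eq_prime (by rw [← map_pow, hc3, map_one]) ((map_ne_one_iff f hf).2 hc1)
    exact this ▸ Subgroup.orderOf_dvd_natCard _ hcN
  have h12 : 12 ∣ Nat.card (N ⊓ H' : Subgroup G) := Nat.Coprime.mul_dvd_of_dvd_of_dvd (by norm_num) h4 h3
  have h12' : 12 ∣ Nat.card N := h12.trans (card_dvd_of_le inf_le_left)
  have hN12 : Nat.card N = 12 := by
    have hp := Nat.card_pos (α := N)
    interval_cases Nat.card N <;> omega
  have hNH : N ≤ H' := by
    have : N ⊓ H' = N := eq_of_le_of_card_ge inf_le_left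
      (hN12 ▸ Nat.le_of_dvd Nat.card_pos h12)
    exact this ▸ inf_le_right
  rcases hco.le_iff.1 hNH with h | h
  · rw [h, Subgroup.card_top, hG660] at hH'c
    norm_num at hH'c
  · rw [h, hN12] at hH'c
    norm_num at hH'c

/-- The case `q = 7`. -/
theorem Setting.not_seven (hno : ∀ (t x : G) (r : ℕ), ¬ Pair T t x r) {F : Type} [Field F] [Fintype F]
    (e : T ≃* P2 F) (hF : Fintype.card F = 7) : False := by
  classical
  haveI : Fact (Nat.Prime 2) := ⟨Nat.prime_two⟩
  haveI := hS.simple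
  have hodd : Odd (Fintype.card F) := ⟨3, by rw [hF]; rfl⟩
  have hpr : (Fintype.card F).Prime := by rw [hF]; norm_num
  have h168 : Nat.card T = 168 := by
    have h3 : 2 * Nat.card T = _ :=
      (congrArg (2 * ·) (Nat.card_congr e.toEquiv)).trans (CfsgLib.PSL2Classes.card_P2_mul hodd)
    rw [hF] at h3
    norm_num at h3
    omega
  obtain ⟨U, hU⟩ := CfsgLib.Simple168.exists_klein h168
  obtain ⟨a, b, haU, hbU, hne, ha, hb⟩ := CfsgLib.Simple168.exists_invol_pair h168 (U := U)
  have habU : Commute a b := by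
    have ha' : a⁻¹ = a := inv_two ha
    have hb' : b⁻¹ = b := inv_two hb
    have h1 : a * b * (a * b) = 1 := CfsgLib.Simple168.klein_sq (mul_mem haU hbU)
    show a * b = b * a
    rw [eq_inv_of_mul_eq_one_left h1, mul_inv_rev, ha', hb']
  have haG : (a : G) * a = 1 := congrArg Subtype.val (mul_self_two ha)
  have hbG : (b : G) * b = 1 := congrArg Subtype.val (mul_self_two hb)
  have habG : Commute (a : G) (b : G) := habU.map T.subtype
  have ha1 : (a : G) ≠ 1 := fun h => ne_one_of_two ha (Subtype.ext h)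
  have hb1 : (b : G) ≠ 1 := fun h => ne_one_of_two hb (Subtype.ext h)
  have hneG : (a : G) ≠ b := fun h => hne (Subtype.ext h)
  obtain ⟨hVT, hco⟩ := hS.coatom_four (ha := haG) (hb := hbG) (hab := habG) a.2 b.2 ha1 hb1 hneG
  set V := four (a : G) (b : G) haG hbG habG with hV
  have hC := hS.centralizer_four_le e hodd hpr (ha := haG) (hb := hbG) (hab := habG) a.2 b.2 ha1 hb1 hneG
  have hVU : V = U.map T.subtype := by
    refine eq_of_le_of_card_ge ?_ (le_of_eq ?_)
    · rintro g (rfl | rfl | rfl | rfl)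
      exacts [one_mem _, ⟨a, haU, rfl⟩, ⟨b, hbU, rfl⟩, ⟨a * b, mul_mem haU hbU, rfl⟩]
    · rw [card_map_of_injective T.subtype_injective, card_four ha1 hb1 hneG]
      exact IsKleinFour.card_four
  set N := normalizer (V : Set G) with hN
  set NT := (normalizer (U : Set T)).map T.subtype with hNT
  have hNT24 : Nat.card NT = 24 := by
    rw [hNT, card_map_of_injective T.subtype_injective, CfsgLib.Simple168.card_normalizer_klein h168]
  have hNTle : NT ≤ N := by
    rintro _ ⟨m, hm, rfl⟩
    refine mem_normalizer_of_conj_mem fun w hw => ?_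
    rw [hVU] at hw ⊢
    obtain ⟨w', hw', rfl⟩ := hw
    exact ⟨m * w' * m⁻¹, (mem_normalizer_iff.1 hm w').1 hw', rfl⟩
  have hNeq : N = NT := (eq_of_le_of_card_ge hNTle
    (hNT24 ▸ card_normalizer_le (card_four ha1 hb1 hneG) hC)).symm
  have hNT' : N ≤ T := hNeq ▸ map_subtype_le _
  rcases hco.le_iff.1 hNT' with hTt | hTt
  · -- `T = ⊤`
    have hP := isPGroup_two_of_no_pair hno a.2 (by rw [orderOf_coe]; exact ha)
    have h8 := (hS.card_inf_centralizer e hodd a.2 (by rw [orderOf_coe]; exact ha)).2.1 hF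
    have hCa : centralizer ({(a : G)} : Set G) = T ⊓ centralizer ({(a : G)} : Set G) :=
      (inf_eq_right.2 (le_top.trans hTt.ge)).symm
    have hVC : V ≤ centralizer ({(a : G)} : Set G) := by
      intro g hg
      rw [mem_centralizer_singleton_iff]
      rcases hg with rfl | rfl | rfl | rfl
      · rw [one_mul, mul_one]
      · rfl
      · exact habG.eq.symm
      · exact ((Commute.refl (a : G)).mul_left habG.symm).eq
    have hidx : (V.subgroupOf (centralizer ({(a : G)} : Set G))).index = 2 := by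
      have h := (V.subgroupOf (centralizer ({(a : G)} : Set G))).card_mul_index
      rw [Nat.card_congr (subgroupOfEquivOfLe hVC).toEquiv, card_four ha1 hb1 hneG, hCa, h8] at h
      rw [hCa]
      omega
    haveI := normal_of_index_eq_two hidx
    have hle : centralizer ({(a : G)} : Set G) ≤ N := le_normalizer_of_normal_subgroupOf hVC
    rcases (hS.isCoatom_centralizer a.2 (by rw [orderOf_coe]; exact ha)).le_iff.1 hle with h | h
    · exact hco.1 h
    · have h' : Nat.card N = 8 := by rw [h, hCa, h8]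
      rw [hNeq, hNT24] at h'
      norm_num at h'
  · -- `T` normalises `V`
    refine hS.not_normal hVT (fun h => ha1 ?_) ?_ (normalizer_eq_top_iff.1 ?_)
    · have : (a : G) ∈ V := Or.inr (Or.inl rfl)
      rwa [h, mem_bot] at this
    · exact isSolvable_of_twoPrimes (by
        rw [card_four ha1 hb1 hneG]; simpa using twoPrimes_pow Nat.prime_two 2)
    · exfalso
      have : Nat.card T = Nat.card N := congrArg (fun X : Subgroup G => Nat.card X) hTt
      rw [hNeq, hNT24, h168] at this
      norm_num at this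

/-- The main local theorem. -/
theorem Setting.thirteen : T = ⊤ ∧ ∃ (F : Type) (_ : Field F) (_ : Fintype F),
    Fintype.card F = 13 ∧ Nonempty (T ≃* P2 F) := by
  classical
  haveI : Fact (Nat.Prime 2) := ⟨Nat.prime_two⟩
  haveI := hS.simple
  by_cases hpair : ∃ (t x : G) (r : ℕ), Pair T t x r
  · obtain ⟨t, x, r, hp⟩ := hpair
    obtain ⟨F, _, _, hchar, ⟨e⟩⟩ := hp.exists_psl hS
    have hodd : Odd (Fintype.card F) := Nat.odd_iff.2 (FiniteField.odd_card_of_char_ne_two hchar)
    have h5 := hS.five_le e hodd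
    have hpr := hS.prime_field e hodd
    have hdvd : r ∣ Nat.card ↥(T ⊓ centralizer ({t} : Set G)) :=
      hp.hx ▸ Subgroup.orderOf_dvd_natCard _
        (⟨hp.hxT, mem_centralizer_singleton_iff.2 hp.hc.eq.symm⟩ : x ∈ T ⊓ centralizer ({t} : Set G))
    have hcards := hS.card_inf_centralizer e hodd hp.htT hp.ht
    have htop : T = ⊤ := by
      rw [eq_top_iff]
      intro g _
      obtain ⟨k, hk, hkt⟩ := hS.conj_involutions e hodd hp.htT hp.ht (hS.normal.conj_mem t hp.htT g)
        (orderOf_two_conj hp.ht g)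
      have hm : k⁻¹ * g ∈ centralizer ({t} : Set G) := by
        rw [mem_centralizer_singleton_iff]
        refine mul_inv_eq_iff_eq_mul.1 ?_
        calc k⁻¹ * g * t * (k⁻¹ * g)⁻¹ = k⁻¹ * (g * t * g⁻¹) * k := by group
          _ = t := by rw [← hkt]; group
      have := mul_mem hk (hp.centralizer_le hS e hodd hpr hm)
      rwa [mul_inv_cancel_left] at this
    rcases hS.small_prime e hodd h5 hpr with hF | hF | hF | hF
    · rw [hcards.1 hF] at hdvd
      exact absurd ((Nat.prime_dvd_prime_iff_eq hp.hr Nat.prime_two).1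
        (hp.hr.dvd_of_dvd_pow (show r ∣ 2 ^ 2 from hdvd))) hp.hr2
    · rw [hcards.2.1 hF] at hdvd
      exact absurd ((Nat.prime_dvd_prime_iff_eq hp.hr Nat.prime_two).1
        (hp.hr.dvd_of_dvd_pow (show r ∣ 2 ^ 3 from hdvd))) hp.hr2
    · exact (hS.not_eleven e hF htop).elim
    · exact ⟨htop, F, inferInstance, inferInstance, hF, ⟨e⟩⟩
  · push Not at hpair
    exfalso
    have hcit : CfsgLib.CIT.IsCIT T := fun u hu => by
      have h := isPGroup_two_of_no_pair hpair u.2 (by rw [orderOf_coe]; exact hu)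
      rw [← map_centralizer_subtype] at h
      exact h.of_equiv (equivMapOfInjective _ _ T.subtype_injective).symm
    rcases CfsgLib.CIT.outcome CfsgLib.CIT.noFpf_of_second hcit hS.not_solv with
      ⟨K, T', D, w, Z⟩ | ⟨-, F, _, _, hodd, ⟨e⟩⟩ | ⟨hse, q, M, X, V, E, T', D, w, w', hSec⟩
    · refine hS.false_of_central_involutions hpair fun R hRT hR2 a ha ha2 y hy => ?_
      obtain ⟨P₁, hP₁⟩ := (hR2.of_equiv (subgroupOfEquivOfLe hRT).symm).exists_le_sylow
      obtain ⟨P₂, hP₂⟩ := Z.two.exists_le_sylow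
      have heq : (P₂ : Subgroup T) = T' := Z.sylow _ P₂.isPGroup' hP₂
      obtain ⟨k, hk⟩ := MulAction.exists_smul_eq T P₁ P₂
      have hin : ∀ z (hz : z ∈ R), k * ⟨z, hRT hz⟩ * k⁻¹ ∈ T' := by
        intro z hz
        rw [← heq, ← hk, Sylow.coe_subgroup_smul]
        exact ⟨_, hP₁ (mem_subgroupOf.2 hz), rfl⟩
      have hTK : T' ≤ K := Z.K_eq ▸ le_normalizer
      have ha' : orderOf (k * ⟨a, hRT ha⟩ * k⁻¹) = 2 :=
        orderOf_two_conj (by rw [← orderOf_coe]; exact ha2) k
      have hc := (Z.central _ (hTK (hin a ha)) ha').2 _ (hin y hy)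
      have h' := hc.map (MulAut.conj k).symm.toMonoidHom
      have h'' : Commute (⟨a, hRT ha⟩ : T) ⟨y, hRT hy⟩ := by
        simpa [MulAut.conj_symm_apply, mul_assoc] using h'
      exact h''.map T.subtype
    · have h5 := hS.five_le e hodd
      have hpr := hS.prime_field e hodd
      obtain ⟨t, htT, ht⟩ := hS.exists_involution
      have hcards := hS.card_inf_centralizer e hodd htT ht
      have hP := isPGroup_two_of_no_pair hpair htT ht
      obtain ⟨j, hj⟩ := hP.exists_card_eq
      rcases hS.small_prime e hodd h5 hpr with hF | hF | hF | hF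
      · refine hS.false_of_central_involutions hpair fun R hRT hR2 a ha _ y hy => ?_
        obtain ⟨i, hi⟩ := hR2.exists_card_eq
        have h60 : 2 ^ i ∣ 60 := by
          have h3 : 2 * Nat.card T = _ :=
            (congrArg (2 * ·) (Nat.card_congr e.toEquiv)).trans (CfsgLib.PSL2Classes.card_P2_mul hodd)
          rw [hF] at h3
          norm_num at h3
          rw [← hi, show (60 : ℕ) = Nat.card T by omega]
          exact card_dvd_of_le hRT
        have hi2 : i ≤ 2 := by
          by_contra hcon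
          have h8 : 2 ^ 3 ∣ 60 := (pow_dvd_pow 2 (by omega)).trans h60
          norm_num at h8
        interval_cases i
        · have : R = ⊥ := card_eq_one.1 (by simpa using hi)
          rw [this, mem_bot] at ha
          rw [ha]; exact Commute.one_left y
        · haveI : IsCyclic R := isCyclic_of_prime_card (p := 2) (by simpa using hi)
          exact congrArg Subtype.val (IsCyclic.commGroup.mul_comm (⟨a, ha⟩ : R) ⟨y, hy⟩)
        · exact congrArg Subtype.val ((IsPGroup.commGroupOfCardEqPrimeSq (p := 2) hi).mul_comm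
            (⟨a, ha⟩ : R) ⟨y, hy⟩)
      · exact hS.not_seven hpair e hF
      · have h12 := hcards.2.2.1 hF
        rw [hj] at h12
        have : 3 ∣ 2 ^ j := ⟨4, by omega⟩
        exact absurd (Nat.prime_three.dvd_of_dvd_pow this) (by norm_num)
      · have h12 := hcards.2.2.2 hF
        rw [hj] at h12
        have : 3 ∣ 2 ^ j := ⟨4, by omega⟩
        exact absurd (Nat.prime_three.dvd_of_dvd_pow this) (by norm_num)
    · obtain ⟨F, _, _, hF, ⟨e⟩⟩ := hSec.exists_psl hcit hse
      exact hS.not_psl_three_four hpair hF e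

end CfsgLib.MaxNorm
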