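import Cfsg.Agent.MaxNorm.Kernel
import Cfsg.Agent.MaxNorm.Socle
import Cfsg.Agent.ThreeSizeCenterless.Tools

/-!
# Nonsolvable groups whose small non-subnormal subgroups have maximal normalisers
-/

set_option autoImplicit false
set_option linter.style.haveILetI false
set_option linter.unusedSectionVars false

namespace CfsgLib.MaxNorm

open Subgroup
open CfsgLib.Linear.SmallSub (P2)
open scoped commutatorElement

universe u

variable {G : Type u} [Group G] [Finite G]

/-- A finite group with two elements of odd prime power order with normal cyclic subgroups in which smaller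
pairs commute. -/
theorem commute_of_normal_cyclic (R : Subgroup G) {p : ℕ} (hp : p.Prime) (hp2 : p ≠ 2)
    (hn : ∀ r ∈ R, (∃ m, orderOf r = p ^ m) → ∀ g ∈ R, g * r * g⁻¹ ∈ zpowers r) :
    ∀ (N m n : ℕ) (a b : G), m + n ≤ N → n ≤ m → a ∈ R → b ∈ R → orderOf a = p ^ m → orderOf b = p ^ n →
      Commute a b := by
  haveI := Fact.mk hp
  intro N
  induction N with
  | zero =>
    intro m n a b h _ _ _ hoa _
    rw [show m = 0 by omega, pow_zero, orderOf_eq_one_iff] at hoa
    rw [hoa]; exact Commute.one_left b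
  | succ N ih =>
    intro m n a b hmn hle ha hb hoa hob
    have ih' : ∀ (m' n' : ℕ) (a' b' : G), m' + n' ≤ N → a' ∈ R → b' ∈ R → orderOf a' = p ^ m' →
        orderOf b' = p ^ n' → Commute a' b' := fun m' n' a' b' h ha' hb' h1 h2 => by
      rcases le_total n' m' with h' | h'
      · exact ih m' n' a' b' h h' ha' hb' h1 h2
      · exact (ih n' m' b' a' (by omega) h' hb' ha' h2 h1).symm
    rcases n with _ | n
    · rw [pow_zero, orderOf_eq_one_iff] at hob
      rw [hob]; exact Commute.one_right a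
    obtain ⟨m, rfl⟩ : ∃ m', m = m' + 1 := ⟨m - 1, by omega⟩
    set c := b * a * b⁻¹ * a⁻¹ with hc
    have hca : c ∈ zpowers a := mul_mem (hn a ha ⟨_, hoa⟩ b hb) (inv_mem (mem_zpowers a))
    have hcb : c ∈ zpowers b := by
      rw [hc, show b * a * b⁻¹ * a⁻¹ = b * (a * b⁻¹ * a⁻¹) by group]
      refine mul_mem (mem_zpowers b) ?_
      rw [show a * b⁻¹ * a⁻¹ = (a * b * a⁻¹)⁻¹ by group]
      exact inv_mem (hn b hb ⟨_, hob⟩ a ha)
    have hcA : Commute c a := by obtain ⟨i, hi⟩ := mem_zpowers_iff.1 hca; exact hi ▸ Commute.zpow_self a i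
    have hcB : Commute c b := by obtain ⟨i, hi⟩ := mem_zpowers_iff.1 hcb; exact hi ▸ Commute.zpow_self b i
    have hpow : ∀ k : ℕ, b ^ k * a * (b ^ k)⁻¹ = c ^ k * a := by
      intro k
      induction k with
      | zero => simp
      | succ k ihk =>
        rw [pow_succ', show b * b ^ k * a * (b * b ^ k)⁻¹ = b * (b ^ k * a * (b ^ k)⁻¹) * b⁻¹ by group, ihk,
          show b * (c ^ k * a) * b⁻¹ = (b * c ^ k * b⁻¹) * (b * a * b⁻¹) by group,
          (hcB.symm.pow_right k).mul_inv_cancel, pow_succ, hc]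
        group
    have hbp : Commute a (b ^ p) := ih' (m + 1) n a (b ^ p) (by omega) ha (pow_mem hb p) hoa (by
      rw [orderOf_pow_of_dvd hp.ne_zero (hob ▸ dvd_pow_self p (by omega)), hob, pow_succ,
        Nat.mul_div_cancel _ hp.pos])
    have hcp : c ^ p = 1 := by
      have h := hpow p
      rw [hbp.symm.mul_inv_cancel] at h
      exact mul_eq_right.1 h.symm
    by_cases hc1 : c = 1
    · rw [hc, mul_inv_eq_one, mul_inv_eq_iff_eq_mul] at hc1
      exact hc1.symm
    have hcord : orderOf c = p := orderOf_eq_prime hcp hc1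
    have hsub : ∀ (w : G) (k : ℕ), orderOf w = p ^ (k + 1) → c ∈ zpowers w →
        zpowers c = zpowers (w ^ p ^ k) := by
      intro w k hw hcw
      obtain ⟨i, hi⟩ := mem_zpowers_iff.1 hcw
      refine eq_of_le_of_card_ge (zpowers_le.2 ?_) (le_of_eq ?_)
      · have hd : ((p ^ (k + 1) : ℕ) : ℤ) ∣ i * p := by
          rw [← hw]
          exact orderOf_dvd_iff_zpow_eq_one.2 (by rw [zpow_mul, zpow_natCast, hi]; exact hcp)
        have hd' : ((p ^ k : ℕ) : ℤ) ∣ i := by
          refine Int.dvd_of_mul_dvd_mul_right (show (p : ℤ) ≠ 0 by exact_mod_cast hp.ne_zero) ?_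
          push_cast at hd ⊢
          rwa [pow_succ] at hd
        obtain ⟨l, rfl⟩ := hd'
        rw [← hi, zpow_mul, zpow_natCast]
        exact zpow_mem (mem_zpowers _) l
      · rw [Nat.card_zpowers, Nat.card_zpowers, hcord,
          orderOf_pow_of_dvd (pow_ne_zero _ hp.ne_zero) (hw ▸ pow_dvd_pow p (by omega)), hw, pow_succ,
          Nat.mul_div_cancel_left _ (pow_pos hp.pos k)]
    have hb' : b ^ p ^ n ∈ zpowers (a ^ p ^ m) := by
      rw [← hsub a m hoa hca, hsub b n hob hcb]; exact mem_zpowers _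
    obtain ⟨j, hj⟩ := mem_zpowers_iff.1 hb'
    rcases n with _ | n
    · rw [pow_zero, pow_one] at hj
      rw [← hj]; exact ((Commute.refl a).pow_right _).zpow_right j
    obtain ⟨d, rfl⟩ : ∃ d, m = n + 1 + d := ⟨m - (n + 1), by omega⟩
    set l : ℤ := -(j * (p ^ d : ℕ)) with hl
    have hal : ∀ i : ℤ, b * a ^ i * b⁻¹ = c ^ i * a ^ i := fun i => by
      have h := hpow 1
      rw [pow_one, pow_one] at h
      rw [← conj_zpow, h, hcA.mul_zpow]
    have hyx : a ^ l * b = c ^ (-l) * (b * a ^ l) := by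
      have h := hal l
      calc a ^ l * b = c ^ (-l) * (c ^ l * a ^ l) * b := by group
        _ = c ^ (-l) * (b * a ^ l) := by rw [← h]; group
    have hN : p ∣ (p ^ (n + 1)).choose 2 := by
      rw [Nat.choose_two_right]
      obtain ⟨i, hi⟩ := (hp.odd_of_ne_two hp2).pow (n := n + 1)
      rw [hi, show 2 * i + 1 - 1 = 2 * i by omega, show (2 * i + 1) * (2 * i) = 2 * ((2 * i + 1) * i) by ring,
        Nat.mul_div_cancel_left _ two_pos, ← hi]
      exact (dvd_pow_self p (by omega)).mul_right _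
    have hzero : (b * a ^ l) ^ p ^ (n + 1) = 1 := by
      rw [CfsgLib.ZJ.mul_pow_of_central hyx (hcB.zpow_left _) ((hcA.zpow_right l).zpow_left _)]
      obtain ⟨e, he⟩ := hN
      rw [he, ← zpow_natCast (c ^ (-l)), ← zpow_mul, mul_comm (-l), zpow_mul, zpow_natCast, pow_mul, hcp,
        one_pow, one_zpow, one_mul, ← hj, ← zpow_natCast (a ^ l), ← zpow_mul, ← zpow_natCast a, ← zpow_mul,
        ← zpow_add, hl]
      have : ((p ^ (n + 1 + d) : ℕ) : ℤ) * j + -(j * ((p ^ d : ℕ) : ℤ)) * ((p ^ (n + 1) : ℕ) : ℤ) = 0 := by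
        push_cast; ring
      rw [this, zpow_zero]
    obtain ⟨k, hk, hk'⟩ := (Nat.dvd_prime_pow hp).1 (orderOf_dvd_of_pow_eq_one hzero)
    have hal' : Commute a (b * a ^ l) :=
      ih' _ k a (b * a ^ l) (by omega) ha (mul_mem hb (zpow_mem ha l)) hoa hk'
    have := hal'.mul_right (((Commute.refl a).zpow_right l).inv_right)
    rwa [mul_inv_cancel_right] at this

theorem eq_top_of_prime_power_mem {H : Type*} [Group H] [Finite H] (C : Subgroup H)
    (h : ∀ g : H, ∀ p m : ℕ, p.Prime → orderOf g = p ^ m → g ∈ C) : C = ⊤ := by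
  rw [← index_eq_one]
  by_contra hne
  obtain ⟨p, hp, hd⟩ := Nat.exists_prime_and_dvd hne
  haveI := Fact.mk hp
  obtain ⟨P⟩ : Nonempty (Sylow p H) := inferInstance
  refine P.not_dvd_index (hd.trans (index_dvd_of_le fun g hg => ?_))
  obtain ⟨m, hm⟩ := IsPGroup.iff_orderOf.1 P.isPGroup' ⟨g, hg⟩
  exact h g p m hp (by rw [← hm, Subgroup.orderOf_mk])

theorem card_SL_thirteen : Nat.card (CfsgLib.SL2C.SL (ZMod 13)) = 2184 := by
  rw [CfsgLib.SL2C.card_SL2_mul, ZMod.card]; norm_num

/-- The classification. -/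
theorem main (hG : ¬ Group.IsSolvable G) (h : Hyp G) :
    ∃ K S : Subgroup G, K.Normal ∧ S.Normal ∧ K ⊓ S = ⊥ ∧ K ⊔ S = ⊤ ∧
      (Nonempty (K ≃* Matrix.ProjectiveSpecialLinearGroup (Fin 2) (ZMod 13)) ∨
        Nonempty (K ≃* Matrix.SpecialLinearGroup (Fin 2) (ZMod 13))) ∧
      IsMulCommutative S ∧ (Nat.card K).Coprime (Nat.card S) := by
  classical
  -- the radical
  obtain ⟨R, hRn, hRs, hRmax⟩ := CfsgLib.ThreeSizeCenterless.exists_radical (G := G)
  haveI := hRn
  have hns : CfsgLib.RadFree.NS (G ⧸ R) := by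
    intro N hN hs
    set f := QuotientGroup.mk' R with hf
    haveI : (N.comap f).Normal := hN.comap f
    have hle : R ≤ N.comap f := fun g hg => by
      rw [mem_comap, hf, QuotientGroup.mk'_apply, (QuotientGroup.eq_one_iff g).2 hg]; exact one_mem _
    have hsol : Group.IsSolvable (N.comap f) := by
      haveI := hRs
      haveI := hs
      exact Group.isSolvable_of_ker_le_range (inclusion hle) ((f.comp (N.comap f).subtype).codRestrict N
        fun x => x.2) fun x hx =>
        ⟨⟨x, (QuotientGroup.eq_one_iff _).1 (congrArg Subtype.val (MonoidHom.mem_ker.1 hx))⟩, rfl⟩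
    rw [← map_comap_eq_self_of_surjective (QuotientGroup.mk'_surjective R) N, Subgroup.map_eq_bot_iff,
      QuotientGroup.ker_mk']
    exact hRmax _ inferInstance hsol
  haveI : Nontrivial (G ⧸ R) := by
    by_contra hnt
    rw [not_nontrivial_iff_subsingleton] at hnt
    refine hG ?_
    haveI := hRs
    exact Group.isSolvable_of_ker_le_range R.subtype (QuotientGroup.mk' R) (by
      rw [QuotientGroup.ker_mk', range_subtype])
  obtain ⟨T, hT⟩ := exists_setting (h.quotient R) hns
  obtain ⟨hTt, F, _, _, hF, ⟨e⟩⟩ := hT.thirteen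
  let f13 : F ≃+* ZMod 13 := (ZMod.ringEquivOfPrime F (by norm_num : Nat.Prime 13) hF).symm
  let i : G ⧸ R ≃* P2 (ZMod 13) :=
    (topEquiv.symm.trans ((MulEquiv.subgroupCongr hTt.symm).trans e)).trans (pslCongr f13)
  set π : G →* P2 (ZMod 13) := i.toMonoidHom.comp (QuotientGroup.mk' R) with hπ
  have hker : π.ker = R := by
    ext g
    rw [MonoidHom.mem_ker, hπ, MonoidHom.comp_apply, MulEquiv.coe_toMonoidHom,
      map_eq_one_iff i i.injective, QuotientGroup.mk'_apply, QuotientGroup.eq_one_iff]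
  haveI : IsSimpleGroup T := hT.simple
  have hsimple : IsSimpleGroup (P2 (ZMod 13)) := by
    haveI : Nontrivial (P2 (ZMod 13)) := i.toEquiv.symm.nontrivial
    exact IsSimpleGroup.isSimpleGroup_of_surjective (e.trans (pslCongr f13)).toMonoidHom
      (e.trans (pslCongr f13)).surjective
  have o : Over π :=
    ⟨h, i.surjective.comp (QuotientGroup.mk'_surjective R), hker.symm ▸ hRs, hsimple, fun hs =>
      hT.not_solv (Group.isSolvable_of_isSolvable_injective (f := (e.trans (pslCongr f13)).toMonoidHom)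
        (e.trans (pslCongr f13)).injective)⟩
  obtain ⟨K, hKn, hKm, hKK, hKL⟩ := o.exists_core
  haveI := hKn
  haveI : Fact (Nat.Prime 7) := ⟨by norm_num⟩
  obtain ⟨y, hy⟩ := exists_prime_orderOf_dvd_card' (G := P2 (ZMod 13)) 13 (by rw [card_thirteen]; norm_num)
  obtain ⟨z, hz⟩ := exists_prime_orderOf_dvd_card' (G := P2 (ZMod 13)) 7 (by rw [card_thirteen]; norm_num)
  have hcent : ∀ k ∈ K, ∀ r ∈ π.ker, Commute r k := fun k hk r hr =>
    o.core_centralizes hKL (by norm_num : (13 : ℕ) ≠ 7) hy hz hk hr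
  -- the cover
  set σ : K →* P2 (ZMod 13) := π.comp K.subtype with hσ
  have hσs : Function.Surjective σ := fun w => by
    obtain ⟨k, hk, rfl⟩ : w ∈ K.map π := hKm ▸ mem_top w
    exact ⟨⟨k, hk⟩, rfl⟩
  have hσc : σ.ker ≤ center K := fun k hk => mem_center_iff.2 fun k' => Subtype.ext
    (hcent k' k'.2 k hk).symm.eq
  have hKp : commutator K = ⊤ := by
    apply map_injective K.subtype_injective
    rw [map_subtype_commutator, ← MonoidHom.range_eq_map, range_subtype]
    exact hKK
  have hiso := cover σ hσs hσc hKp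
  have hcardK : Nat.card K = 1092 ∨ Nat.card K = 2184 := by
    refine hiso.imp ?_ ?_ <;> rintro ⟨j⟩ <;> rw [Nat.card_congr j.toEquiv]
    · exact card_thirteen
    · exact card_SL_thirteen
  have hcinf : Nat.card (K ⊓ π.ker : Subgroup G) ∣ 2 := by
    have h1 := σ.ker.card_mul_index
    rw [index_ker, MonoidHom.range_eq_top.2 hσs, Subgroup.card_top, card_thirteen] at h1
    have h2 : Nat.card σ.ker = Nat.card (K ⊓ π.ker : Subgroup G) := by
      rw [← card_map_of_injective (f := K.subtype) K.subtype_injective]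
      congr 2
      ext g
      constructor
      · rintro ⟨w, hw, rfl⟩; exact ⟨w.2, hw⟩
      · rintro ⟨hg, hg'⟩; exact ⟨⟨g, hg⟩, hg', rfl⟩
    rw [← h2]
    rcases hcardK with e' | e' <;> rw [e'] at h1
    · rw [show Nat.card σ.ker = 1 by omega]; norm_num
    · rw [show Nat.card σ.ker = 2 by omega]
  have S : Split π K := ⟨o, hKn, hKm, hKK, hcent, hcardK, hcinf⟩
  -- the kernel is abelian
  set Z := π.ker with hZ
  have hn : ∀ (q m : ℕ), q.Prime → ∀ r ∈ Z, orderOf r = q ^ m → ∀ g : G, g * r * g⁻¹ ∈ zpowers r :=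
    fun q m hq r hr hrm g => S.normal_zpowers hq hr hrm g
  have hKZ : ∀ w ∈ K, w ∈ Z → ∀ g : G, Commute w g := by
    intro w hwK hwZ g
    obtain ⟨k, hk, s, hs, rfl⟩ := S.decomp g
    exact (hcent k hk w hwZ).mul_right (hcent w hwK s hs).symm
  have hcomm2 : ∀ a ∈ Z, ∀ b ∈ Z, ∀ p q m n : ℕ, p.Prime → q.Prime → orderOf a = p ^ m → orderOf b = q ^ n →
      Commute a b := by
    intro a ha b hb p q m n hp hq hoa hob
    by_cases hpq : p = q
    · subst hpq
      by_cases hp2 : p = 2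
      · subst hp2
        exact hKZ a (S.two_mem m a ha hoa) ha b
      · have key := commute_of_normal_cyclic Z hp hp2 fun r hr ⟨j, hj⟩ g _ => hn p j hp r hr hj g
        rcases le_total n m with h' | h'
        · exact key (m + n) m n a b le_rfl h' ha hb hoa hob
        · exact (key (n + m) n m b a le_rfl h' hb ha hob hoa).symm
    · have hc : a * b * a⁻¹ * b⁻¹ = 1 := by
        refine orderOf_eq_one_iff.1 (Nat.eq_one_of_dvd_coprimes (((Nat.coprime_primes hp hq).2 hpq).pow m n)
          ?_ ?_)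
        · rw [← hoa]
          refine (Subgroup.orderOf_dvd_natCard (zpowers a) ?_).trans (dvd_of_eq (Nat.card_zpowers a))
          rw [show a * b * a⁻¹ * b⁻¹ = a * (b * a⁻¹ * b⁻¹) by group,
            show b * a⁻¹ * b⁻¹ = (b * a * b⁻¹)⁻¹ by group]
          exact mul_mem (mem_zpowers a) (inv_mem (hn p m hp a ha hoa b))
        · rw [← hob]
          refine (Subgroup.orderOf_dvd_natCard (zpowers b) ?_).trans (dvd_of_eq (Nat.card_zpowers b))
          exact mul_mem (hn q n hq b hb hob a) (inv_mem (mem_zpowers b))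
      rw [mul_inv_eq_one, mul_inv_eq_iff_eq_mul] at hc
      exact hc
  have hZab : ∀ a ∈ Z, ∀ b ∈ Z, Commute a b := by
    have h1 : ∀ a ∈ Z, ∀ p m : ℕ, p.Prime → orderOf a = p ^ m → ∀ b ∈ Z, Commute a b := by
      intro a ha p m hp hoa b hb
      have htop := eq_top_of_prime_power_mem ((centralizer ({a} : Set G)).subgroupOf Z) fun g q n hq hg =>
        mem_centralizer_singleton_iff.2
          (hcomm2 g g.2 a ha q p n m hq hp (by rw [orderOf_coe, hg]) hoa).eq
      have : (⟨b, hb⟩ : Z) ∈ (centralizer ({a} : Set G)).subgroupOf Z := htop ▸ mem_top _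
      exact (mem_centralizer_singleton_iff.1 this).symm
    intro a ha b hb
    have htop := eq_top_of_prime_power_mem ((centralizer ({b} : Set G)).subgroupOf Z) fun g q n hq hg =>
      mem_centralizer_singleton_iff.2 (h1 g g.2 q n hq (by rw [orderOf_coe, hg]) b hb).eq
    have : (⟨a, ha⟩ : Z) ∈ (centralizer ({b} : Set G)).subgroupOf Z := htop ▸ mem_top _
    exact mem_centralizer_singleton_iff.1 this
  -- the odd part
  set N := ordCompl[2] (Nat.card Z) with hN
  have hNodd : ¬ 2 ∣ N := Nat.not_dvd_ordCompl Nat.prime_two Nat.card_pos.ne'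
  let A : Subgroup G :=
    { carrier := {g | g ∈ Z ∧ g ^ N = 1}
      one_mem' := ⟨one_mem _, one_pow _⟩
      mul_mem' := fun {a b} ha hb =>
        ⟨mul_mem ha.1 hb.1, by rw [(hZab a ha.1 b hb.1).mul_pow, ha.2, hb.2, one_mul]⟩
      inv_mem' := fun {a} ha => ⟨inv_mem ha.1, by rw [inv_pow, ha.2, inv_one]⟩ }
  have hAn : A.Normal := ⟨fun a ha g => ⟨(MonoidHom.normal_ker π).conj_mem a ha.1 g, by
    rw [conj_pow, ha.2, mul_one, mul_inv_cancel]⟩⟩
  refine ⟨K, A, hKn, hAn, ?_, ?_, hiso, ⟨⟨fun a b => Subtype.ext (hZab a a.2.1 b b.2.1).eq⟩⟩, ?_⟩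
  · rw [eq_bot_iff]
    rintro g ⟨hgK, hgZ, hgN⟩
    exact mem_bot.2 (orderOf_eq_one_iff.1 (Nat.eq_one_of_dvd_coprimes (a := 2) (b := N)
      (Nat.coprime_two_left.2 (Nat.odd_iff.2 (Nat.two_dvd_ne_zero.1 hNodd)))
      (orderOf_dvd_of_pow_eq_one (S.sq_eq_one hgK hgZ)) (orderOf_dvd_of_pow_eq_one hgN)))
  · rw [eq_top_iff]
    intro g _
    obtain ⟨k, hk, r, hr, rfl⟩ := S.decomp g
    refine mul_mem (mem_sup_left hk) ?_
    have hcop : (2 ^ (Nat.card Z).factorization 2).Coprime N :=
      (Nat.coprime_two_left.2 (Nat.odd_iff.2 (Nat.two_dvd_ne_zero.1 hNodd))).pow_left _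
    have hrZ : r ^ Nat.card Z = 1 := orderOf_dvd_iff_pow_eq_one.1 (Subgroup.orderOf_dvd_natCard _ hr)
    have hbez := Nat.gcd_eq_gcd_ab (2 ^ (Nat.card Z).factorization 2) N
    rw [Nat.coprime_iff_gcd_eq_one.1 hcop] at hbez
    rw [show r = r ^ (((1 : ℕ) : ℤ)) by rw [Nat.cast_one, zpow_one], hbez, zpow_add, zpow_mul, zpow_mul,
      zpow_natCast, zpow_natCast]
    refine mul_mem (mem_sup_right (zpow_mem (show _ ∈ A from ⟨pow_mem hr _, ?_⟩) _)) (mem_sup_left (zpow_mem ?_ _))
    · rw [← pow_mul, Nat.ordProj_mul_ordCompl_eq_self, hrZ]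
    · have hd : orderOf (r ^ N) ∣ 2 ^ (Nat.card Z).factorization 2 :=
        orderOf_dvd_of_pow_eq_one (by rw [← pow_mul, mul_comm, Nat.ordProj_mul_ordCompl_eq_self, hrZ])
      obtain ⟨j, -, hj⟩ := (Nat.dvd_prime_pow Nat.prime_two).1 hd
      exact S.two_mem j _ (pow_mem hr N) hj
  · refine Nat.coprime_of_dvd fun p hp hpK hpA => ?_
    haveI := Fact.mk hp
    obtain ⟨a, ha⟩ := exists_prime_orderOf_dvd_card' p hpA
    have hpN : p ∣ N := by
      rw [← ha, ← orderOf_coe a]; exact orderOf_dvd_of_pow_eq_one a.2.2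
    have hp2 : p ≠ 2 := fun e' => hNodd (e' ▸ hpN)
    have hpZ : p ∣ Nat.card π.ker := by
      rw [← ha, ← orderOf_coe a]; exact Subgroup.orderOf_dvd_natCard _ a.2.1
    refine S.not_dvd hp hp2 hpK (fun hd2 => ?_) hpZ
    have hle : p * p ≤ 2184 := by
      rcases hcardK with e' | e' <;> rw [e'] at hd2 <;>
        exact (Nat.le_of_dvd (by norm_num) hd2).trans (by norm_num)
    have hp46 : p < 47 := by nlinarith
    rcases hcardK with e' | e' <;> rw [e'] at hd2 hpK <;> interval_cases p <;> revert hp hp2 hd2 hpK <;> norm_num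

end CfsgLib.MaxNorm
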