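import Cfsg.Agent.MaxNorm.Four
import Cfsg.Agent.SLMult.PSL

/-!
# `PSL₂(13)` and its perfect central extensions
-/

set_option autoImplicit false
set_option linter.style.haveILetI false
set_option linter.unusedSectionVars false

namespace CfsgLib.MaxNorm

open Subgroup
open CfsgLib.SL2C
open CfsgLib.Linear.SmallSub (P2 proj)
open scoped commutatorElement

universe u

instance fact_prime_thirteen : Fact (Nat.Prime 13) := ⟨by norm_num⟩

theorem odd_thirteen : Odd (Fintype.card (ZMod 13)) := by rw [ZMod.card]; decide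

theorem proj_eq_of_neg {X Y : SL (ZMod 13)} (h : mt X = -mt Y) : proj X = proj Y := by
  have e : X = negOne (ZMod 13) * Y := by
    apply mt_injective
    rw [mt_mul, mt_negOne, neg_one_mul, h]
  rw [e, map_mul, CfsgLib.Linear.FourGroups.proj_eq_one.2 negOne_mem_center, one_mul]

theorem proj_ne_of {X Y : SL (ZMod 13)} (h1 : mt X ≠ mt Y) (h2 : mt X ≠ -mt Y) : proj X ≠ proj Y := by
  intro e
  have h : X * Y⁻¹ ∈ Subgroup.center (SL (ZMod 13)) := by
    rw [← CfsgLib.Linear.FourGroups.proj_eq_one, map_mul, map_inv, e, mul_inv_cancel]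
  rcases center_cases h with h' | h'
  · exact h1 (by rw [mul_inv_eq_one.1 h'])
  · refine h2 ?_
    rw [mul_inv_eq_iff_eq_mul.1 h', mt_mul, mt_negOne, neg_one_mul]

theorem card_thirteen : Nat.card (P2 (ZMod 13)) = 1092 := by
  have h := CfsgLib.PSL2Classes.card_P2_mul odd_thirteen
  rw [ZMod.card] at h
  exact Nat.eq_of_mul_eq_mul_left two_pos (h.trans (by norm_num))

/-- A four-group and an element permuting its involutions. -/
theorem exists_four_thirteen : ∃ a b c : P2 (ZMod 13), a * a = 1 ∧ b * b = 1 ∧ Commute a b ∧ a ≠ 1 ∧ b ≠ 1 ∧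
    a ≠ b ∧ c * a * c⁻¹ = b ∧ c * b * c⁻¹ = a * b := by
  let A : SL (ZMod 13) := ⟨!![5, 0; 0, 8], by rw [Matrix.det_fin_two_of]; decide⟩
  let B : SL (ZMod 13) := ⟨!![0, 1; 12, 0], by rw [Matrix.det_fin_two_of]; decide⟩
  let C : SL (ZMod 13) := ⟨!![2, 2; 3, 10], by rw [Matrix.det_fin_two_of]; decide⟩
  refine ⟨proj A, proj B, proj C, ?_, ?_, ?_, ?_, ?_, ?_, ?_, ?_⟩
  · rw [← map_mul, ← map_one (proj (F := ZMod 13))]
    exact proj_eq_of_neg (by rw [mt_mul, mt_one]; decide)
  · rw [← map_mul, ← map_one (proj (F := ZMod 13))]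
    exact proj_eq_of_neg (by rw [mt_mul, mt_one]; decide)
  · show _ = _
    rw [← map_mul, ← map_mul]
    exact proj_eq_of_neg (by rw [mt_mul, mt_mul]; decide)
  · rw [← map_one (proj (F := ZMod 13))]
    exact proj_ne_of (by rw [mt_one]; decide) (by rw [mt_one]; decide)
  · rw [← map_one (proj (F := ZMod 13))]
    exact proj_ne_of (by rw [mt_one]; decide) (by rw [mt_one]; decide)
  · exact proj_ne_of (by decide) (by decide)
  · rw [mul_inv_eq_iff_eq_mul, ← map_mul, ← map_mul]
    first
      | exact congrArg _ (mt_injective (by rw [mt_mul, mt_mul]; decide))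
      | exact proj_eq_of_neg (by rw [mt_mul, mt_mul]; decide)
  · rw [mul_inv_eq_iff_eq_mul, ← map_mul, ← map_mul, ← map_mul]
    first
      | exact congrArg _ (mt_injective (by rw [mt_mul, mt_mul, mt_mul]; decide))
      | exact proj_eq_of_neg (by rw [mt_mul, mt_mul, mt_mul]; decide)

/-- Transport along an isomorphism of fields. -/
noncomputable def pslCongr {F F' : Type} [Field F] [Field F'] (f : F ≃+* F') : P2 F ≃* P2 F' :=
  let e : SL F ≃* SL F' :=
    { toFun := Matrix.SpecialLinearGroup.map f.toRingHom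
      invFun := Matrix.SpecialLinearGroup.map f.symm.toRingHom
      left_inv := fun g => Subtype.ext (by ext i j; simp)
      right_inv := fun g => Subtype.ext (by ext i j; simp)
      map_mul' := map_mul _ }
  QuotientGroup.congr _ _ e (by
    ext y
    constructor
    · rintro ⟨g, hg, rfl⟩
      refine mem_center_iff.2 fun z => ?_
      obtain ⟨z', rfl⟩ := e.surjective z
      exact ((map_mul e _ _).symm.trans (congrArg e (mem_center_iff.1 hg z'))).trans (map_mul e _ _)
    · intro hy
      refine ⟨e.symm y, mem_center_iff.2 fun z => e.injective ?_, e.apply_symm_apply y⟩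
      rw [map_mul, map_mul, e.apply_symm_apply]
      exact mem_center_iff.1 hy (e z))

theorem commutator_SL_thirteen : commutator (SL (ZMod 13)) = ⊤ :=
  CfsgLib.Linear.commutator_SL_eq_top (Or.inr ⟨2, by decide, by decide⟩)

theorem cover_zero {Γ : Type} [Group Γ] [Finite Γ] (σ : Γ →* P2 (ZMod 13)) (hsurj : Function.Surjective σ)
    (hc : σ.ker ≤ center Γ) (hperf : commutator Γ = ⊤) :
    Nonempty (Γ ≃* P2 (ZMod 13)) ∨ Nonempty (Γ ≃* SL (ZMod 13)) := by
  let τ := QuotientGroup.mk' (center (SL (ZMod 13)))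
  have hτ : Function.Surjective τ := QuotientGroup.mk'_surjective _
  have hsurjP := Schur.psnd_surjective σ τ hsurj
  have hcP := CfsgLib.SLMult.psnd_ker_le_center σ τ hc
  have hst := CfsgLib.SLMult.derived_stem _ hsurjP hcP commutator_SL_thirteen
  have hk := CfsgLib.SL2Mult.ker_eq_bot (F := ZMod 13) (by rw [ZMod.card]; norm_num)
    (by rw [ZMod.card]; norm_num) hst
  let e := MulEquiv.ofBijective _ ⟨(MonoidHom.ker_eq_bot_iff _).1 hk, hst.1⟩
  let φ : SL (ZMod 13) →* Γ :=
    (Schur.pfst σ τ).comp ((commutator _).subtype.comp e.symm.toMonoidHom)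
  have hστ : ∀ d, σ (φ d) = τ d := fun d => by
    show σ (((e.symm d : commutator _) : Schur.pullback σ τ)).1.1 = _
    rw [Schur.mem_pullback.1 ((e.symm d : commutator _) : Schur.pullback σ τ).2]
    exact congrArg τ (e.apply_symm_apply d)
  have hlift : ∀ g : Γ, ∃ d, σ g = σ (φ d) := fun g => by
    obtain ⟨d, hd⟩ := hτ (σ g)
    exact ⟨d, by rw [hστ, hd]⟩
  have hφ : Function.Surjective φ := by
    have hle : commutator Γ ≤ φ.range := by
      rw [_root_.commutator_def, commutator_le]
      intro a _ b _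
      obtain ⟨x, hx⟩ := hlift a
      obtain ⟨y, hy⟩ := hlift b
      exact ⟨⁅x, y⁆, by rw [map_commutatorElement]; exact (CfsgLib.SLMult.commutator_congr hc hx hy).symm⟩
    intro g
    exact hle (hperf ▸ mem_top g)
  have hker : φ.ker ≤ center (SL (ZMod 13)) := fun d hd => by
    have h' := hστ d
    rw [MonoidHom.mem_ker.1 hd, map_one] at h'
    rw [← QuotientGroup.ker_mk' (center (SL (ZMod 13)))]
    exact h'.symm
  by_cases hb : φ.ker = ⊥
  · exact Or.inr ⟨(MulEquiv.ofBijective φ ⟨(MonoidHom.ker_eq_bot_iff φ).1 hb, hφ⟩).symm⟩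
  · have heq : φ.ker = center (SL (ZMod 13)) := by
      obtain ⟨d, hd, hd1⟩ := φ.ker.bot_or_exists_ne_one.resolve_left hb
      refine le_antisymm hker fun y hy => ?_
      rcases center_cases hy with rfl | rfl
      · exact one_mem _
      · rcases center_cases (hker hd) with rfl | rfl
        · exact absurd rfl hd1
        · exact hd
    exact Or.inl ⟨(QuotientGroup.quotientKerEquivOfSurjective φ hφ).symm.trans
      (QuotientGroup.quotientMulEquivOfEq heq)⟩

/-- A perfect central extension of `PSL₂(13)` is `PSL₂(13)` or `SL₂(13)`. -/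
theorem cover {Γ : Type u} [Group Γ] [Finite Γ] (σ : Γ →* P2 (ZMod 13)) (hsurj : Function.Surjective σ)
    (hc : σ.ker ≤ center Γ) (hperf : commutator Γ = ⊤) :
    Nonempty (Γ ≃* P2 (ZMod 13)) ∨ Nonempty (Γ ≃* SL (ZMod 13)) := by
  let e : Shrink.{0} Γ ≃* Γ := Shrink.mulEquiv
  haveI : Finite (Shrink.{0} Γ) := Finite.of_equiv Γ e.symm.toEquiv
  have h := cover_zero (σ.comp e.toMonoidHom) (hsurj.comp e.surjective) (fun z hz => by
      refine mem_center_iff.2 fun y => e.injective ?_
      rw [map_mul, map_mul]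
      exact mem_center_iff.1 (hc (show e z ∈ σ.ker from hz)) (e y)) (by
      have h1 := Schur.map_commutator_of_surjective e.symm.toMonoidHom e.symm.surjective
      rw [hperf, ← MonoidHom.range_eq_map, MonoidHom.range_eq_top.2 e.symm.surjective] at h1
      exact h1.symm)
  refine h.imp ?_ ?_ <;> rintro ⟨i⟩
  · exact ⟨e.symm.trans i⟩
  · exact ⟨e.symm.trans i⟩

end CfsgLib.MaxNorm
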