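import Cfsg.Agent.MaxNorm.Over
import Cfsg.Agent.MaxNorm.Thirteen

/-!
# The kernel over `PSL₂(13)`
-/

set_option autoImplicit false
set_option linter.style.haveILetI false
set_option linter.unusedSectionVars false

namespace CfsgLib.MaxNorm

open Subgroup
open CfsgLib.Linear.SmallSub (P2)
open scoped commutatorElement Pointwise

universe u

variable {G : Type u} [Group G] [Finite G] {π : G →* P2 (ZMod 13)}

/-- The situation: a core `K` centralising the kernel. -/
structure Split (π : G →* P2 (ZMod 13)) (K : Subgroup G) : Prop where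
  over' : Over π
  normal : K.Normal
  map_eq : K.map π = ⊤
  perfect : ⁅K, K⁆ = K
  cent : ∀ k ∈ K, ∀ r ∈ π.ker, Commute r k
  card_K : Nat.card K = 1092 ∨ Nat.card K = 2184
  card_inf : Nat.card (K ⊓ π.ker : Subgroup G) ∣ 2

namespace Split

variable {K : Subgroup G} (S : Split π K)

include S

theorem decomp (g : G) : ∃ k ∈ K, ∃ r ∈ π.ker, g = k * r := by
  obtain ⟨k, hk, hkg⟩ : π g ∈ K.map π := S.map_eq ▸ mem_top (π g)
  exact ⟨k, hk, k⁻¹ * g, by rw [MonoidHom.mem_ker, map_mul, map_inv, hkg, inv_mul_cancel],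
    (mul_inv_cancel_left k g).symm⟩

theorem sq_eq_one {z : G} (hz : z ∈ K) (hz' : z ∈ π.ker) : z ^ 2 = 1 :=
  orderOf_dvd_iff_pow_eq_one.1 ((Subgroup.orderOf_dvd_natCard _ (mem_inf.2 ⟨hz, hz'⟩ : z ∈ K ⊓ π.ker)).trans
    S.card_inf)

theorem exists_elem {p : ℕ} (hp : p.Prime) (hp2 : p ≠ 2) (hd : p ∣ Nat.card K) :
    ∃ x ∈ K, orderOf x = p ∧ π x ≠ 1 := by
  haveI := Fact.mk hp
  obtain ⟨x, hx⟩ := exists_prime_orderOf_dvd_card' p hd
  refine ⟨x, x.2, by rw [orderOf_coe, hx], fun h => hp2 ?_⟩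
  have h2 := orderOf_dvd_of_pow_eq_one (S.sq_eq_one x.2 (MonoidHom.mem_ker.2 h))
  rw [orderOf_coe, hx] at h2
  exact (Nat.prime_dvd_prime_iff_eq hp Nat.prime_two).1 h2

theorem thirteen_dvd : 13 ∣ Nat.card K := by
  rcases S.card_K with h | h <;> rw [h] <;> norm_num

/-- Cyclic subgroups of prime power order of the kernel are normal. -/
theorem normal_zpowers {q m : ℕ} (hq : q.Prime) {r : G} (hr : r ∈ π.ker) (hrm : orderOf r = q ^ m)
    (g : G) : g * r * g⁻¹ ∈ zpowers r := by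
  obtain ⟨x, hxK, hx, hx1⟩ := S.exists_elem (by norm_num : Nat.Prime 13) (by norm_num) S.thirteen_dvd
  obtain ⟨k, hk, s, hs, rfl⟩ := S.decomp g
  have hsr : s * r * s⁻¹ ∈ π.ker := (MonoidHom.normal_ker π).conj_mem r hr s
  rw [show k * s * r * (k * s)⁻¹ = k * (s * r * s⁻¹) * k⁻¹ by group,
    (S.cent k hk _ hsr).symm.mul_inv_cancel]
  have hcom : Commute x r := (S.cent x hxK r hr).symm
  have hn : zpowers r ≤ normalizer (zpowers x : Set G) :=
    zpowers_le.2 (mem_normalizer_zpowers (by rw [hcom.symm.mul_inv_cancel]; exact mem_zpowers x))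
  set H := zpowers x ⊔ zpowers r
  have h2 : TwoPrimes (Nat.card H) := by
    have hn' : zpowers x ≤ normalizer (zpowers r : Set G) :=
      zpowers_le.2 (mem_normalizer_zpowers (by rw [hcom.mul_inv_cancel]; exact mem_zpowers r))
    refine TwoPrimes.of_dvd ?_ (CfsgLib.Solvable.card_sup_dvd hn')
    rw [Nat.card_zpowers, Nat.card_zpowers, hx, hrm]
    simpa using twoPrimes_mul (by norm_num : Nat.Prime 13) hq 1 m
  have h1 : H.map π ≠ ⊥ := fun h => hx1 (mem_bot.1 (h ▸ mem_map_of_mem π (mem_sup_left (mem_zpowers x))))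
  have hmem : s * r * s⁻¹ ∈ H :=
    (mem_normalizer_iff.1 (S.over'.ker_le_normalizer h2 h1 hs) r).1 (mem_sup_right (mem_zpowers r))
  have hmem' : s * r * s⁻¹ ∈ (zpowers x : Set G) * (zpowers r : Set G) := by
    rw [← coe_mul_of_right_le_normalizer_left _ _ hn]; exact hmem
  obtain ⟨a, ha, b, hb, hab⟩ := Set.mem_mul.1 hmem'
  have hbR : b ∈ π.ker := zpowers_le.2 hr hb
  have haR : a ∈ π.ker := by
    rw [show a = s * r * s⁻¹ * b⁻¹ by rw [← hab, mul_inv_cancel_right]]
    exact mul_mem hsr (inv_mem hbR)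
  have ha1 : a = 1 := by
    refine orderOf_eq_one_iff.1 (Nat.eq_one_of_dvd_coprimes (a := 13) (b := 2) (by norm_num) ?_
      (orderOf_dvd_of_pow_eq_one (S.sq_eq_one ((zpowers_le.2 hxK) ha) haR)))
    exact hx ▸ (Subgroup.orderOf_dvd_natCard _ ha).trans (dvd_of_eq (Nat.card_zpowers x))
  rw [← hab, ha1, one_mul]
  exact hb

/-- An element of odd prime order of the core is moved by its normaliser. -/
theorem exists_moves {p : ℕ} (hp : p.Prime) (hd : p ∣ Nat.card K) (hd2 : ¬ p * p ∣ Nat.card K) {x : G}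
    (hx : x ∈ K) (hxp : orderOf x = p) : ∃ n ∈ K, n * x * n⁻¹ ∈ zpowers x ∧ n * x * n⁻¹ ≠ x := by
  classical
  haveI := Fact.mk hp
  set P₀ := zpowers (⟨x, hx⟩ : K) with hP₀
  have hc : Nat.card P₀ = p := by rw [hP₀, Nat.card_zpowers, Subgroup.orderOf_mk, hxp]
  have hidx : ¬ p ∣ P₀.index := fun h => hd2 (by
    rw [← P₀.card_mul_index, hc]; exact mul_dvd_mul_left p h)
  set P : Sylow p K := (IsPGroup.of_card (n := 1) (by rw [hc, pow_one]) : IsPGroup p P₀).toSylow hidx with hP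
  have hPc : (P : Subgroup K) = P₀ := IsPGroup.toSylow_coe _ hidx
  by_contra hno
  push Not at hno
  have hNC : normalizer ((P : Subgroup K) : Set K) ≤ centralizer ((P : Subgroup K) : Set K) := by
    intro n hn
    rw [hPc] at hn ⊢
    have h := (mem_normalizer_iff.1 hn ⟨x, hx⟩).1 (mem_zpowers _)
    obtain ⟨i, hi⟩ := mem_zpowers_iff.1 h
    have hi' : (n : G) * x * (n : G)⁻¹ = x := hno n n.2 (mem_zpowers_iff.2 ⟨i, by
      simpa using congrArg Subtype.val hi⟩)
    rw [mem_centralizer_iff]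
    rintro y hy
    obtain ⟨j, rfl⟩ := mem_zpowers_iff.1 hy
    have hc' : Commute n (⟨x, hx⟩ : K) := Subtype.ext (mul_inv_eq_iff_eq_mul.1 hi')
    exact (hc'.zpow_right j).eq.symm
  have hcompl := MonoidHom.ker_transferSylow_isComplement' P hNC
  set f := MonoidHom.transferSylow P hNC
  have hcK : commutator K ≤ f.ker := by
    rw [_root_.commutator_def, commutator_le]
    intro a _ b _
    rw [MonoidHom.mem_ker, map_commutatorElement, commutatorElement_eq_one_iff_mul_comm]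
    haveI : IsCyclic (P : Subgroup K) := hPc.symm ▸ isCyclic_zpowers _
    exact IsCyclic.commGroup.mul_comm _ _
  have htop : commutator K = ⊤ := by
    apply map_injective K.subtype_injective
    rw [map_subtype_commutator, ← MonoidHom.range_eq_map, range_subtype]
    exact S.perfect
  have hxk : (⟨x, hx⟩ : K) ∈ f.ker ⊓ (P : Subgroup K) :=
    mem_inf.2 ⟨hcK (htop ▸ mem_top _), hPc ▸ mem_zpowers _⟩
  rw [hcompl.disjoint.eq_bot, mem_bot] at hxk
  have hx1 : x = 1 := congrArg Subtype.val hxk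
  rw [hx1, orderOf_one] at hxp
  exact hp.ne_one hxp.symm

/-- The odd primes of `PSL₂(13)` do not divide the order of the kernel. -/
theorem not_dvd {p : ℕ} (hp : p.Prime) (hp2 : p ≠ 2) (hd : p ∣ Nat.card K) (hd2 : ¬ p * p ∣ Nat.card K) :
    ¬ p ∣ Nat.card π.ker := by
  intro hdR
  haveI := Fact.mk hp
  obtain ⟨h, hh⟩ := exists_prime_orderOf_dvd_card' p hdR
  obtain ⟨x, hxK, hx, hx1⟩ := S.exists_elem hp hp2 hd
  obtain ⟨n, hnK, hnx, hne⟩ := S.exists_moves hp hd hd2 hxK hx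
  obtain ⟨j, hj⟩ := mem_zpowers_iff.1 hnx
  have hxh : Commute x (h : G) := (S.cent x hxK h h.2).symm
  have hnh : n * (h : G) * n⁻¹ = h := (S.cent n hnK h h.2).symm.mul_inv_cancel
  set y := x * (h : G) with hy
  have hπy : π y = π x := by rw [hy, map_mul, MonoidHom.mem_ker.1 h.2, mul_one]
  have hh' : (h : G) ^ p = 1 := by rw [← hh, ← orderOf_coe, pow_orderOf_eq_one]
  have hyp : y ^ p = 1 := by rw [hy, hxh.mul_pow, hh', ← hx, pow_orderOf_eq_one, one_mul]
  have h2 : TwoPrimes (Nat.card (zpowers y)) := by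
    rw [Nat.card_zpowers]
    exact (by simpa using twoPrimes_pow hp 1 : TwoPrimes p).of_dvd (orderOf_dvd_of_pow_eq_one hyp)
  have hmap : (zpowers y).map π = zpowers (π x) := by rw [MonoidHom.map_zpowers, hπy]
  have h1 : (zpowers y).map π ≠ ⊥ := by rw [hmap]; exact mt zpowers_eq_bot.1 hx1
  have hn : n ∈ normalizer (zpowers y : Set G) := by
    rw [S.over'.normalizer_eq h2 h1, mem_comap, hmap]
    refine mem_normalizer_zpowers ?_
    rw [← map_inv, ← map_mul, ← map_mul, ← hj, map_zpow]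
    exact zpow_mem (mem_zpowers _) j
  obtain ⟨k, hk⟩ := mem_zpowers_iff.1 ((mem_normalizer_iff.1 hn y).1 (mem_zpowers y))
  have e : x ^ k * (h : G) ^ k = x ^ j * h := by
    rw [← hxh.mul_zpow, ← hy, hk, hy, hj,
      show n * (x * (h : G)) * n⁻¹ = (n * x * n⁻¹) * (n * (h : G) * n⁻¹) by group, hnh]
  have e' : x ^ (-j + k) = (h : G) ^ (1 - k) := by
    calc x ^ (-j + k) = (x ^ j)⁻¹ * (x ^ k * (h : G) ^ k) * ((h : G) ^ k)⁻¹ := by group
      _ = (h : G) * ((h : G) ^ k)⁻¹ := by rw [e, inv_mul_cancel_left]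
      _ = _ := by group
  have hker : x ^ (-j + k) ∈ π.ker := e' ▸ zpow_mem h.2 _
  have h21 : x ^ (-j + k) = 1 := orderOf_eq_one_iff.1 (Nat.eq_one_of_dvd_coprimes (a := p) (b := 2)
    (Nat.coprime_two_right.2 (hp.odd_of_ne_two hp2))
    (hx ▸ (Subgroup.orderOf_dvd_natCard _ (zpow_mem (mem_zpowers x) _)).trans (dvd_of_eq (Nat.card_zpowers x)))
    (orderOf_dvd_of_pow_eq_one (S.sq_eq_one (zpow_mem hxK _) hker)))
  have hho : orderOf (h : G) = p := by rw [orderOf_coe, hh]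
  have hk1 : (p : ℤ) ∣ 1 - k := hho ▸ orderOf_dvd_iff_zpow_eq_one.2 (e'.symm.trans h21)
  have hjk : (p : ℤ) ∣ -j + k := hx ▸ orderOf_dvd_iff_zpow_eq_one.2 h21
  apply hne
  rw [← hj]
  have hj1 : x ^ (j - 1) = 1 := orderOf_dvd_iff_zpow_eq_one.1 (by
    rw [hx]; simpa [show j - 1 = -((-j + k) + (1 - k)) by ring] using (dvd_add hjk hk1).neg_right)
  rwa [zpow_sub, zpow_one, mul_inv_eq_one] at hj1

/-- The 2-elements of the kernel lie in the core. -/
theorem two_mem : ∀ (m : ℕ) (h : G), h ∈ π.ker → orderOf h = 2 ^ m → h ∈ K := by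
  intro m
  induction m with
  | zero =>
    intro h _ hm
    rw [pow_zero, orderOf_eq_one_iff] at hm
    exact hm ▸ one_mem K
  | succ m ih =>
    intro h hh hm
    by_contra hK
    have hsqK : h ^ 2 ∈ K := ih _ (pow_mem hh 2) (by
      rw [orderOf_pow_of_dvd (by norm_num) (hm ▸ dvd_pow_self 2 (by omega)), hm, pow_succ,
        Nat.mul_div_cancel _ two_pos])
    obtain ⟨a, b, c, ha, hb, hab, ha1, hb1, hne, hca, hcb⟩ := exists_four_thirteen
    set V := four a b ha hb hab with hV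
    set A : Subgroup (P2 (ZMod 13)) := zpowers a with hA
    have hA' : ∀ w, w ∈ A ↔ w = 1 ∨ w = a := fun w => by
      constructor
      · exact fun hw => eq_one_of_two (orderOf_two_of ha ha1) hw
      · rintro (rfl | rfl)
        exacts [one_mem _, mem_zpowers _]
    set W := K ⊓ V.comap π with hW
    have hWh : ∀ w ∈ W, Commute h w := fun w hw => S.cent w hw.1 h hh
    have hπh : π h = 1 := MonoidHom.mem_ker.1 hh
    have hout : ∀ u v, u ∈ V → v ∈ V → u ∉ A → v ∉ A → u * v ∈ A := by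
      have hba : b * a = a * b := hab.eq.symm
      rintro u v (rfl | rfl | rfl | rfl) (rfl | rfl | rfl | rfl) hu hv <;>
        first
          | exact absurd (one_mem _) hu
          | exact absurd (one_mem _) hv
          | exact absurd (mem_zpowers _) hu
          | exact absurd (mem_zpowers _) hv
          | skip
      · rw [hb]; exact one_mem _
      · rw [← mul_assoc, hba, mul_assoc, hb, mul_one]; exact mem_zpowers _
      · rw [mul_assoc, hb, mul_one]; exact mem_zpowers _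
      · rw [mul_assoc, ← mul_assoc b, hba, mul_assoc, hb, mul_one, ha]; exact one_mem _
    let H : Subgroup G :=
      { carrier := {g | ∃ w ∈ W, (π w ∈ A ∧ g = w) ∨ (π w ∉ A ∧ g = w * h)}
        one_mem' := ⟨1, one_mem _, Or.inl ⟨by rw [map_one]; exact one_mem _, rfl⟩⟩
        mul_mem' := by
          rintro g g' ⟨w, hw, ⟨h1, rfl⟩ | ⟨h1, rfl⟩⟩ ⟨w', hw', ⟨h2, rfl⟩ | ⟨h2, rfl⟩⟩
          · exact ⟨_, mul_mem hw hw', Or.inl ⟨by rw [map_mul]; exact mul_mem h1 h2, rfl⟩⟩
          · refine ⟨g * w', mul_mem hw hw', Or.inr ⟨?_, (mul_assoc _ _ _).symm⟩⟩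
            rw [map_mul, A.mul_mem_cancel_left h1]; exact h2
          · refine ⟨w * g', mul_mem hw hw', Or.inr ⟨?_, ?_⟩⟩
            · rw [map_mul, A.mul_mem_cancel_right h2]; exact h1
            · rw [mul_assoc, (hWh g' hw').eq, ← mul_assoc]
          · refine ⟨w * w' * h ^ 2, mul_mem (mul_mem hw hw') ⟨hsqK, ?_⟩, Or.inl ⟨?_, ?_⟩⟩
            · show π (h ^ 2) ∈ V
              rw [map_pow, hπh, one_pow]; exact one_mem _
            · rw [map_mul, map_pow, hπh, one_pow, mul_one, map_mul]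
              exact hout _ _ hw.2 hw'.2 h1 h2
            · rw [sq, mul_assoc w h, ← mul_assoc h w', (hWh w' hw').eq]
              simp only [mul_assoc]
        inv_mem' := by
          rintro g ⟨w, hw, ⟨h1, rfl⟩ | ⟨h1, rfl⟩⟩
          · exact ⟨g⁻¹, inv_mem hw, Or.inl ⟨by rw [map_inv]; exact inv_mem h1, rfl⟩⟩
          · refine ⟨w⁻¹ * (h ^ 2)⁻¹, mul_mem (inv_mem hw) (inv_mem ⟨hsqK, ?_⟩), Or.inr ⟨?_, ?_⟩⟩
            · show π (h ^ 2) ∈ V
              rw [map_pow, hπh, one_pow]; exact one_mem _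
            · rw [map_mul, map_inv, map_inv, map_pow, hπh, one_pow, inv_one, mul_one, inv_mem_iff]
              exact h1
            · calc (w * h)⁻¹ = (h * w)⁻¹ := by rw [(hWh w hw).eq]
                _ = w⁻¹ * (h ^ 2)⁻¹ * h := by group }
    have hW2 : IsPGroup 2 W := fun w => ⟨2, Subtype.ext (by
      rw [SubmonoidClass.coe_pow, OneMemClass.coe_one, show (2 : ℕ) ^ 2 = 2 * 2 by norm_num, pow_mul]
      refine S.sq_eq_one (pow_mem w.2.1 2) ?_
      rw [MonoidHom.mem_ker, map_pow, sq]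
      have hv : π (w : G) ∈ V := w.2.2
      rcases hv with e | e | e | e <;> rw [e]
      · exact mul_one 1
      · exact ha
      · exact hb
      · rw [← sq, hab.mul_pow, sq, sq, ha, hb, one_mul])⟩
    have hn : zpowers h ≤ normalizer (W : Set G) :=
      zpowers_le.2 (mem_normalizer_of_conj_mem fun w hw => by rw [(hWh w hw).mul_inv_cancel]; exact hw)
    haveI : Fact (Nat.Prime 2) := ⟨Nat.prime_two⟩
    have hH2 : IsPGroup 2 H := (IsPGroup.to_sup_of_normal_left' hW2 (isPGroup_zpowers_of_orderOf hm) hn).to_le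
      (by
        rintro g ⟨w, hw, ⟨-, rfl⟩ | ⟨-, rfl⟩⟩
        · exact mem_sup_left hw
        · exact mul_mem (mem_sup_left hw) (mem_sup_right (mem_zpowers h)))
    have hlift : ∀ v ∈ V, ∃ w ∈ W, π w = v := fun v hv => by
      obtain ⟨k, hk, rfl⟩ : v ∈ K.map π := S.map_eq ▸ mem_top v
      exact ⟨k, ⟨hk, hv⟩, rfl⟩
    have hmap : H.map π = V := by
      refine le_antisymm ?_ fun v hv => ?_
      · rintro _ ⟨g, ⟨w, hw, ⟨-, rfl⟩ | ⟨-, rfl⟩⟩, rfl⟩
        · exact hw.2
        · rw [map_mul, hπh, mul_one]; exact hw.2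
      · obtain ⟨w, hw, rfl⟩ := hlift v hv
        by_cases hwA : π w ∈ A
        · exact ⟨w, ⟨w, hw, Or.inl ⟨hwA, rfl⟩⟩, rfl⟩
        · exact ⟨w * h, ⟨w, hw, Or.inr ⟨hwA, rfl⟩⟩, by rw [map_mul, hπh, mul_one]⟩
    obtain ⟨n, hn2⟩ := IsPGroup.iff_card.1 hH2
    have haV : a ∈ V := Or.inr (Or.inl rfl)
    have hcn : c ∈ normalizer (V : Set (P2 (ZMod 13))) := by
      refine mem_normalizer_of_conj_mem ?_
      rintro g (rfl | rfl | rfl | rfl)
      · simp
      · exact Or.inr (Or.inr (Or.inl hca))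
      · exact Or.inr (Or.inr (Or.inr hcb))
      · rw [show c * (a * b) * c⁻¹ = (c * a * c⁻¹) * (c * b * c⁻¹) by group, hca, hcb]
        exact mul_mem (Or.inr (Or.inr (Or.inl rfl))) (Or.inr (Or.inr (Or.inr rfl)))
    obtain ⟨k, hkK, hkc⟩ : c ∈ K.map π := S.map_eq ▸ mem_top c
    have hne' : H.map π ≠ ⊥ := by
      rw [hmap]; intro h'; exact ha1 (mem_bot.1 (h' ▸ haV))
    have hkN : k ∈ normalizer (H : Set G) := by
      rw [S.over'.normalizer_eq (hn2 ▸ twoPrimes_pow Nat.prime_two n) hne', mem_comap, hmap, hkc]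
      exact hcn
    obtain ⟨w, hw, hwa⟩ := hlift a haV
    have hwH : w ∈ H := ⟨w, hw, Or.inl ⟨hwa ▸ mem_zpowers a, rfl⟩⟩
    obtain ⟨w', hw', ⟨h1, e⟩ | ⟨h1, e⟩⟩ := (mem_normalizer_iff.1 hkN w).1 hwH
    · rw [← e, map_mul, map_mul, map_inv, hkc, hwa, hca, hA'] at h1
      exact h1.elim hb1 fun h' => hne h'.symm
    · apply hK
      rw [show h = w'⁻¹ * (k * w * k⁻¹) by rw [e, inv_mul_cancel_left]]
      exact mul_mem (inv_mem hw'.1) (mul_mem (mul_mem hkK hw.1) (inv_mem hkK))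

end Split

end CfsgLib.MaxNorm
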