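import Cfsg.Agent.MaxNorm.Bad
import Cfsg.Agent.BSWId.Main
import Cfsg.Agent.BSWId.Dihedral

/-!
# The socle is a `PSL₂` when an involution of `T` commutes with an odd element
-/

set_option autoImplicit false
set_option linter.style.haveILetI false
set_option linter.unusedSectionVars false

namespace CfsgLib.MaxNorm

open Subgroup

universe u

variable {G : Type u} [Group G] [Finite G] {T : Subgroup G}

theorem two_part {n : G} : ∃ k m : ℕ, Odd k ∧ orderOf (n ^ k) = 2 ^ m := by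
  have h0 : orderOf n ≠ 0 := (orderOf_pos n).ne'
  refine ⟨ordCompl[2] (orderOf n), (orderOf n).factorization 2, ?_, ?_⟩
  · exact Nat.odd_iff.2 (Nat.two_dvd_ne_zero.1 (Nat.not_dvd_ordCompl Nat.prime_two h0))
  · rw [orderOf_pow_of_dvd (Nat.ordCompl_pos 2 h0).ne' (Nat.ordCompl_dvd _ _)]
    exact Nat.div_div_self (Nat.ordProj_dvd _ _) h0

theorem pow_conj_swap {n a b : G} (h1 : n * a * n⁻¹ = b) (h2 : n * b * n⁻¹ = a) :
    ∀ k : ℕ, Odd k → n ^ k * a * (n ^ k)⁻¹ = b := by
  rintro k ⟨j, rfl⟩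
  induction j with
  | zero => simpa using h1
  | succ j ih =>
    rw [show 2 * (j + 1) + 1 = 1 + (1 + (2 * j + 1)) by ring, pow_add, pow_add, pow_one]
    calc n * (n * n ^ (2 * j + 1)) * a * (n * (n * n ^ (2 * j + 1)))⁻¹
        = n * (n * (n ^ (2 * j + 1) * a * (n ^ (2 * j + 1))⁻¹) * n⁻¹) * n⁻¹ := by group
      _ = b := by rw [ih, h2, h1]

variable (hS : Setting T) {t x : G} {r : ℕ} (hp : Pair T t x r)

include hS hp

/-- The Sylow 2-subgroup is a four-group permuted transitively. -/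
theorem Pair.exists_four : ∃ (s n : G) (S : Subgroup G), n ∈ T ∧ s ∈ T ∧ orderOf s = 2 ∧ Commute t s ∧
    s ≠ t ∧ s * x * s⁻¹ = x⁻¹ ∧ IsPGroup 2 S ∧ S ≤ T ⊓ centralizer ({t} : Set G) ∧ t ∈ S ∧ s ∈ S ∧
    (∀ w ∈ S, w = 1 ∨ w = t ∨ w = s ∨ w = t * s) ∧ n * t * n⁻¹ = s ∧ n * s * n⁻¹ = t * s ∧
    n * (t * s) * n⁻¹ = t ∧ ∀ v ∈ T, (∀ a ∈ S, v * a * v⁻¹ ∈ S) → (∃ m : ℕ, orderOf v = 2 ^ m) → v ∈ S := by
  classical
  haveI : Fact (Nat.Prime 2) := ⟨Nat.prime_two⟩
  obtain ⟨g, hgT, hcts, hne⟩ := hS.exists_conj hp.htT hp.ht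
  set s := g * t * g⁻¹ with hsdef
  have hsT : s ∈ T := hS.normal.conj_mem t hp.htT g
  have hs : orderOf s = 2 := orderOf_two_conj hp.ht g
  have hinv := hp.conj_inverts hS hcts hne
  obtain ⟨S₁, h2S₁, hle₁, htS₁, hsS₁, -⟩ := hp.exists_sylow hS hsT hs hcts
  -- a maximal 2-subgroup
  obtain ⟨S, hS₁S, ⟨hS2, hSle⟩, hmax'⟩ := (Set.toFinite
    {Q : Subgroup G | IsPGroup 2 Q ∧ Q ≤ T ⊓ centralizer ({t} : Set G)}).exists_le_maximal
    (show S₁ ∈ {Q : Subgroup G | IsPGroup 2 Q ∧ Q ≤ T ⊓ centralizer ({t} : Set G)} from ⟨h2S₁, hle₁⟩)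
  have hmax : ∀ Q : Subgroup G, IsPGroup 2 Q → Q ≤ T ⊓ centralizer ({t} : Set G) → S ≤ Q → Q = S :=
    fun Q h1 h2 h3 => le_antisymm (hmax' ⟨h1, h2⟩ h3) h3
  have htS : t ∈ S := hS₁S htS₁
  have hsS : s ∈ S := hS₁S hsS₁
  obtain ⟨hab, hker, hinvol⟩ := hp.two_props hS hsT hs hcts hinv hS2 hSle htS hsS
  have hmem : ∀ v ∈ T, (∀ a ∈ S, v * a * v⁻¹ ∈ S) → (∃ m : ℕ, orderOf v = 2 ^ m) → v ∈ S := by
    intro v hvT hvS ⟨m, hm⟩
    by_contra hv
    by_cases hvt : v * t * v⁻¹ = t
    · refine hv ((hmax (S ⊔ zpowers v) ?_ (sup_le hSle (zpowers_le.2 ⟨hvT, ?_⟩)) le_sup_left) ▸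
        mem_sup_right (mem_zpowers v))
      · exact IsPGroup.to_sup_of_normal_left' hS2 (isPGroup_zpowers_of_orderOf hm)
          (zpowers_le.2 (mem_normalizer_of_conj_mem hvS))
      · exact mem_centralizer_singleton_iff.2 (mul_inv_eq_iff_eq_mul.1 hvt)
    · exact hp.false_of_moved hS hS2 hSle htS hmax hvT hm hvS hvt
  -- an element of `N_T(S)` moving `t` to `s`
  obtain ⟨n, hnT, hnS, hnt⟩ : ∃ n ∈ T, (∀ a ∈ S, n * a * n⁻¹ ∈ S) ∧ n * t * n⁻¹ = s := by
    set H := T ⊓ centralizer ({s} : Set G) with hH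
    have hSH : S ≤ H := fun a ha =>
      ⟨(hSle ha).1, mem_centralizer_singleton_iff.2 (hab a ha s hsS).eq⟩
    have hgS : ∀ a ∈ S, g * a * g⁻¹ ∈ H := fun a ha => by
      refine ⟨hS.normal.conj_mem a (hSle ha).1 g, mem_centralizer_singleton_iff.2 ?_⟩
      have hc : Commute a t := (mem_centralizer_singleton_iff.1 (hSle ha).2)
      exact (hc.map (MulAut.conj g).toMonoidHom :)
    set S' := S.map (MulAut.conj g).toMonoidHom with hS'
    have hS'H : S' ≤ H := by rintro _ ⟨a, ha, rfl⟩; exact hgS a ha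
    have hS'2 : IsPGroup 2 S' := hS2.map _
    obtain ⟨R₁, hR₁⟩ := (hS2.of_equiv (subgroupOfEquivOfLe hSH).symm).exists_le_sylow
    obtain ⟨R₂, hR₂⟩ := (hS'2.of_equiv (subgroupOfEquivOfLe hS'H).symm).exists_le_sylow
    obtain ⟨k, hk⟩ := MulAction.exists_smul_eq H R₂ R₁
    -- the conjugate of `R₁` by `(k g)⁻¹` lies in `C_T(t)`
    set n := (k : G) * g with hn
    have hnT : n ∈ T := mul_mem k.2.1 hgT
    have hnt : n * t * n⁻¹ = s := by
      have hks : Commute (k : G) s := mem_centralizer_singleton_iff.1 k.2.2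
      calc n * t * n⁻¹ = (k : G) * s * (k : G)⁻¹ := by rw [hn, hsdef]; group
        _ = s := hks.mul_inv_cancel
    refine ⟨n, hnT, fun a ha => ?_, hnt⟩
    have hR : n * a * n⁻¹ ∈ ((R₁ : Subgroup H).map H.subtype) := by
      rw [← hk, Sylow.coe_subgroup_smul]
      refine ⟨k * ⟨g * a * g⁻¹, hgS a ha⟩ * k⁻¹, ⟨⟨g * a * g⁻¹, hgS a ha⟩,
        hR₂ (mem_subgroupOf.2 ⟨a, ha, rfl⟩), by simp [MulAut.conj_apply]⟩, ?_⟩
      simp [hn, mul_assoc]
    set Q := ((R₁ : Subgroup H).map H.subtype).map (MulAut.conj n).symm.toMonoidHom with hQ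
    have hQ2 : IsPGroup 2 Q := (R₁.isPGroup'.map H.subtype).map _
    have hQle : Q ≤ T ⊓ centralizer ({t} : Set G) := by
      rintro _ ⟨w, hw, rfl⟩
      have hwH : w ∈ H := map_subtype_le _ hw
      refine ⟨by simpa [MulAut.conj_symm_apply] using hS.normal.conj_mem w hwH.1 n⁻¹,
        mem_centralizer_singleton_iff.2 ?_⟩
      have hc : Commute w (n * t * n⁻¹) := hnt ▸ (mem_centralizer_singleton_iff.1 hwH.2)
      have := hc.map (MulAut.conj n).symm.toMonoidHom
      simpa [MulAut.conj_symm_apply, mul_assoc] using this.eq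
    have hSQ : S ≤ Q := by
      intro b hb
      refine ⟨n * b * n⁻¹, ?_, by simp [MulAut.conj_symm_apply, mul_assoc]⟩
      rw [← hk, Sylow.coe_subgroup_smul]
      refine ⟨k * ⟨g * b * g⁻¹, hgS b hb⟩ * k⁻¹, ⟨⟨g * b * g⁻¹, hgS b hb⟩,
        hR₂ (mem_subgroupOf.2 ⟨b, hb, rfl⟩), by simp [MulAut.conj_apply]⟩, ?_⟩
      simp [hn, mul_assoc]
    have hQS := hmax Q hQ2 hQle hSQ
    -- both Sylow subgroups have the order of `S`
    have hR₁eq : (R₁ : Subgroup H).map H.subtype = S := by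
      have hle : S ≤ (R₁ : Subgroup H).map H.subtype := fun a ha =>
        ⟨⟨a, hSH ha⟩, hR₁ (mem_subgroupOf.2 ha), rfl⟩
      refine (eq_of_le_of_card_ge hle (le_of_eq ?_)).symm
      conv_rhs => rw [← hQS]
      rw [hQ, card_map_of_injective (f := (MulAut.conj n).symm.toMonoidHom)
        (MulAut.conj n).symm.injective]
    rwa [hR₁eq] at hR
  obtain ⟨hns, hnu⟩ : n * s * n⁻¹ = t * s ∧ n * (t * s) * n⁻¹ = t := by
    have hprod : n * (t * s) * n⁻¹ = s * (n * s * n⁻¹) := by rw [← hnt]; group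
    rcases hinvol _ (hnS s hsS) (orderOf_two_conj hs n) with e | e | e
    · exfalso
      obtain ⟨k, m, hk, hm⟩ := two_part (n := n)
      have hnk : ∀ a ∈ S, n ^ k * a * (n ^ k)⁻¹ ∈ S := by
        intro a ha
        clear hk hm
        induction k with
        | zero => simpa using ha
        | succ k ih => rw [show n ^ (k + 1) * a * (n ^ (k + 1))⁻¹ = n * (n ^ k * a * (n ^ k)⁻¹) * n⁻¹ by
            rw [pow_succ']; group]
                       exact hnS _ ih
      have hv := hmem _ (pow_mem hnT k) hnk ⟨m, hm⟩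
      exact hne ((pow_conj_swap hnt e k hk).symm.trans (hab _ hv t htS).mul_inv_cancel)
    · exact absurd (mul_left_cancel (mul_right_cancel (e.trans hnt.symm))) hne
    · exact ⟨e, by rw [hprod, e, hcts.eq, ← mul_assoc, mul_self_two hs, one_mul]⟩
  refine ⟨s, n, S, hnT, hsT, hs, hcts, hne, hinv, hS2, hSle, htS, hsS, fun w hw => ?_, hnt, hns, hnu, hmem⟩
  by_cases hw1 : w = 1
  · exact Or.inl hw1
  refine Or.inr (hinvol w hw (orderOf_two_of ?_ hw1))
  -- no element of order four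
  by_contra hw2
  obtain ⟨j, hj⟩ := exists_orderOf_pow hS2 hw
  obtain ⟨i, rfl⟩ : ∃ i, j = i + 2 := by
    refine ⟨j - 2, ?_⟩
    by_contra hlt
    apply hw2
    rw [← sq]
    exact orderOf_dvd_iff_pow_eq_one.1 (by rw [hj]; exact pow_dvd_pow 2 (show j ≤ 1 by omega))
  have hnott : ∀ d ∈ S, orderOf d = 2 ^ (i + 2) → d ^ 2 ^ (i + 1) ≠ t := by
    intro d hdS hd e
    have hdx : Commute d x :=
      hS.commute_of_pow hp.htT hp.ht hp.hxT hp.hr hp.hr2 hp.hx hp.hc (hSle hdS).1 hd e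
    rcases hker d hdS hdx with rfl | rfl
    · rw [orderOf_one] at hd
      exact absurd hd.symm (by rw [Nat.pow_eq_one]; omega)
    · rw [hp.ht] at hd
      exact absurd hd (ne_of_lt (lt_of_lt_of_le (by norm_num : 2 < 2 ^ 2) (Nat.pow_le_pow_right two_pos (by omega))))
  have hord : orderOf (w ^ 2 ^ (i + 1)) = 2 := by
    rw [orderOf_pow_of_dvd (pow_ne_zero _ two_ne_zero) (by rw [hj]; exact pow_dvd_pow 2 (by omega)), hj,
      pow_succ 2 (i + 1), Nat.mul_div_cancel_left _ (by positivity)]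
  have hconj : ∀ d, orderOf d = 2 ^ (i + 2) → orderOf (n * d * n⁻¹) = 2 ^ (i + 2) := fun d hd =>
    (orderOf_injective (MulAut.conj n).toMonoidHom (MulAut.conj n).injective d).trans hd
  rcases hinvol _ (pow_mem hw _) hord with e | e | e
  · exact hnott w hw hj e
  · refine hnott _ (hnS _ (hnS w hw)) (hconj _ (hconj w hj)) ?_
    rw [conj_pow, conj_pow, e, hns, hnu]
  · refine hnott _ (hnS w hw) (hconj w hj) ?_
    rw [conj_pow, e, hnu]

/-- The socle is a `PSL₂` in odd characteristic. -/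
theorem Pair.exists_psl : ∃ (F : Type) (_ : Field F) (_ : Fintype F), ringChar F ≠ 2 ∧
    Nonempty (T ≃* Matrix.ProjectiveSpecialLinearGroup (Fin 2) F) := by
  classical
  haveI : Fact (Nat.Prime 2) := ⟨Nat.prime_two⟩
  obtain ⟨s, n, S, hnT, hsT, hs, hcts, hne, hinv, hS2, hSle, htS, hsS, hfour, hnt, hns, hnu, hmem⟩ :=
    hp.exists_four hS
  set H := T ⊓ centralizer ({t} : Set G) with hH
  set S₀ := S.subgroupOf H with hS₀
  have hSH : S ≤ H := hSle
  have hS₀2 : IsPGroup 2 S₀ := hS2.of_equiv (subgroupOfEquivOfLe hSH).symm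
  have hconjS : ∀ a : H, a ∈ normalizer (S₀ : Set H) → ∀ b ∈ S, (a : G) * b * (a : G)⁻¹ ∈ S :=
    fun a ha b hb => mem_subgroupOf.1 ((mem_normalizer_iff.1 ha ⟨b, hSH hb⟩).1 (mem_subgroupOf.2 hb))
  have hidx : ¬ 2 ∣ S₀.index := two_not_dvd_index hS₀2 fun a ha ⟨m, hm⟩ =>
    mem_subgroupOf.2 (hmem a a.2.1 (hconjS a ha) ⟨m, by rw [orderOf_coe, hm]⟩)
  set P : Sylow 2 H := hS₀2.toSylow hidx with hP
  have hPc : (P : Subgroup H) = S₀ := IsPGroup.toSylow_coe hS₀2 hidx
  have hab : ∀ a ∈ S, ∀ b ∈ S, Commute a b := fun a ha b hb => hp.commute_two hS hS2 hSle ha hb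
  have hne' : t * s ≠ s := fun e => ne_one_of_two hp.ht (mul_eq_right.1 e)
  have hts1 : t * s ≠ 1 := fun e => hne ((eq_inv_of_mul_eq_one_right e).trans (inv_two hp.ht))
  have hNC : normalizer ((P : Subgroup H) : Set H) ≤ centralizer ((P : Subgroup H) : Set H) := by
    intro a ha
    rw [hPc] at ha
    rw [hPc, mem_centralizer_iff]
    rintro ⟨b, hbH⟩ hb
    have hb' : b ∈ S := mem_subgroupOf.1 hb
    apply Subtype.ext
    show b * (a : G) = (a : G) * b
    have hat : Commute (a : G) t := mem_centralizer_singleton_iff.1 a.2.2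
    have has : Commute (a : G) s := by
      rcases hfour _ (hconjS a ha s hsS) with e | e | e | e
      · exact absurd (conj_eq_one_iff.1 e) (ne_one_of_two hs)
      · exact absurd (mul_left_cancel (mul_right_cancel (e.trans hat.mul_inv_cancel.symm))) hne
      · exact mul_inv_eq_iff_eq_mul.1 e
      · exfalso
        have e' : (a : G) * (t * s) * (a : G)⁻¹ = s := by
          rw [show (a : G) * (t * s) * (a : G)⁻¹ = ((a : G) * t * (a : G)⁻¹) * ((a : G) * s * (a : G)⁻¹) by
            group, hat.mul_inv_cancel, e, ← mul_assoc, mul_self_two hp.ht, one_mul]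
        obtain ⟨k, m, hk, hm⟩ := two_part (n := (a : G))
        have hv := hmem _ (pow_mem a.2.1 k) (fun b hb => by
          clear hk hm
          induction k with
          | zero => simpa using hb
          | succ k ih =>
            rw [show (a : G) ^ (k + 1) * b * ((a : G) ^ (k + 1))⁻¹ =
              a * ((a : G) ^ k * b * ((a : G) ^ k)⁻¹) * (a : G)⁻¹ by rw [pow_succ']; group]
            exact hconjS a ha _ ih) ⟨m, hm⟩
        exact hne' ((pow_conj_swap e e' k hk).symm.trans (hab _ hv s hsS).mul_inv_cancel)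
    rcases hfour b hb' with rfl | rfl | rfl | rfl
    · rw [one_mul, mul_one]
    · exact hat.symm.eq
    · exact has.symm.eq
    · exact (hat.mul_right has).symm.eq
  set O := (MonoidHom.transferSylow P hNC).ker with hO
  have hcompl : IsComplement' O S₀ := hPc ▸ MonoidHom.ker_transferSylow_isComplement' P hNC
  have hOodd : ∀ o ∈ O, ¬ orderOf o = 2 := by
    intro o ho h2
    have h := orderOf_dvd_natCard O ho
    rw [h2, ← hcompl.index_eq_card] at h
    exact hidx h
  have hdecomp : ∀ a : H, ∃ o ∈ O, ∃ w ∈ S₀, a = o * w := fun a => by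
    obtain ⟨⟨o, w⟩, e⟩ := hcompl.2 a
    exact ⟨o, o.2, w, w.2, e.symm⟩
  haveI : O.Normal := MonoidHom.normal_ker _
  set sH : H := ⟨s, hSH hsS⟩ with hsH
  -- `s` inverts `O`
  set f : O →* O := (MulAut.conjNormal sH).toMonoidHom with hf
  have hfix : MonoidHom.FixedPointFree f := by
    intro o ho
    by_contra ho1
    have hos : sH * (o : H) * sH⁻¹ = o := congrArg Subtype.val ho
    obtain ⟨q, hq, hqd⟩ := Nat.exists_prime_and_dvd (mt orderOf_eq_one_iff.1 ho1)
    haveI := Fact.mk hq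
    obtain ⟨y, hy⟩ := exists_prime_orderOf_dvd_card' (G := zpowers o) q (by rwa [Nat.card_zpowers])
    have hy' : orderOf ((y : O) : H) = q := by rw [orderOf_coe, orderOf_coe, hy]
    have hyH : orderOf (((y : O) : H) : G) = q := by rw [orderOf_coe, hy']
    have hq2 : q ≠ 2 := fun e => hOodd _ (y : O).2 (hy'.trans e)
    have hpy : Pair T t (((y : O) : H) : G) q := ⟨hp.htT, hp.ht, ((y : O) : H).2.1, hq, hq2, hyH,
      (mem_centralizer_singleton_iff.1 ((y : O) : H).2.2).symm⟩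
    refine hne (hpy.unique hS hsT hs ?_)
    obtain ⟨i, hi⟩ := mem_zpowers_iff.1 y.2
    have hc : Commute sH ((y : O) : H) := by
      rw [← hi, Subgroup.coe_zpow]
      exact Commute.zpow_right (mul_inv_eq_iff_eq_mul.1 hos) i
    exact hc.map H.subtype
  have hinvol : Function.Involutive f := fun o => Subtype.ext (Subtype.ext (by
    show s * (s * ((o : H) : G) * s⁻¹) * s⁻¹ = ((o : H) : G)
    rw [show s * (s * ((o : H) : G) * s⁻¹) * s⁻¹ = (s * s) * ((o : H) : G) * (s * s)⁻¹ by group,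
      mul_self_two hs]
    group))
  have hOinv : ∀ o : H, o ∈ O → s * (o : G) * s⁻¹ = (o : G)⁻¹ := fun o ho =>
    congrArg (fun z : O => ((z : H) : G)) (congrFun (hfix.coe_eq_inv_of_involutive hinvol) ⟨o, ho⟩)
  have hOcomm : ∀ o o' : H, o ∈ O → o' ∈ O → Commute (o : G) (o' : G) := fun o o' ho ho' =>
    congrArg (fun z : O => ((z : H) : G)) (hfix.commute_all_of_involutive hinvol ⟨o, ho⟩ ⟨o', ho'⟩).eq
  have hOt : ∀ o : H, Commute (o : G) t := fun o => mem_centralizer_singleton_iff.1 o.2.2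
  set OG := O.map H.subtype with hOG
  have hOGt : ∀ o ∈ OG, Commute o t := by rintro _ ⟨o, -, rfl⟩; exact hOt o
  -- the abelian subgroup `K`
  let K : Subgroup T :=
    { carrier := {k | (k : G) ∈ OG ∨ (k : G) * t ∈ OG}
      one_mem' := Or.inl (by simp)
      mul_mem' := by
        intro a b ha hb
        simp only [Set.mem_setOf_eq, Subgroup.coe_mul] at *
        rcases ha with ha | ha <;> rcases hb with hb | hb
        · exact Or.inl (mul_mem ha hb)
        · exact Or.inr (by rw [mul_assoc]; exact mul_mem ha hb)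
        · refine Or.inr ?_
          rw [mul_assoc, (hOGt _ hb).eq, ← mul_assoc]
          exact mul_mem ha hb
        · refine Or.inl ?_
          have e : (a : G) * b = ((a : G) * t) * ((b : G) * t) := by
            rw [mul_assoc (a : G) t, ← (hOGt _ hb).eq, mul_assoc (b : G) t t, mul_self_two hp.ht, mul_one]
          rw [e]; exact mul_mem ha hb
      inv_mem' := by
        intro a ha
        simp only [Set.mem_setOf_eq, Subgroup.coe_inv] at *
        rcases ha with ha | ha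
        · exact Or.inl (inv_mem ha)
        · refine Or.inr ?_
          have h1 := inv_mem ha
          have e : (a : G)⁻¹ * t = ((a : G) * t)⁻¹ := by
            rw [mul_inv_rev, inv_two hp.ht]
            have : Commute ((a : G)⁻¹) t := by
              have h2 := ((hOGt _ ha).mul_left (Commute.refl t).inv_left).inv_left
              simpa using h2
            exact this.eq
          rwa [e] }
  have hKmem : ∀ k : T, k ∈ K ↔ (k : G) ∈ OG ∨ (k : G) * t ∈ OG := fun k => Iff.rfl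
  have hKt : ∀ k ∈ K, Commute ((k : T) : G) t := by
    rintro k (hk | hk)
    · exact hOGt _ hk
    · simpa using (hOGt _ hk).mul_left (Commute.refl t).inv_left
  have hKinvol : ∀ k ∈ K, orderOf (k : G) = 2 → (k : G) = t := by
    rintro k (⟨o, ho, e⟩ | ⟨o, ho, e⟩) hk
    · exact absurd (by rw [← orderOf_coe o]; exact (congrArg orderOf e).trans hk) (hOodd o ho)
    · have ho1 : (o : G) = 1 := by
        by_contra h1
        refine hOodd o ho ?_
        rw [← orderOf_coe o]
        refine orderOf_two_of ?_ h1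
        have : Commute (k : G) t := hKt k (Or.inr ⟨o, ho, e⟩)
        change (o : G) = _ at e
        rw [e, ← sq, this.mul_pow, sq, sq, mul_self_two hk, mul_self_two hp.ht, one_mul]
      change (o : G) = _ at e
      rw [ho1] at e
      exact (eq_inv_of_mul_eq_one_left e.symm).trans (inv_two hp.ht)
  have hOG1 : ∀ w ∈ OG, w * w = 1 → w = 1 := by
    rintro _ ⟨o, ho, rfl⟩ hw
    by_contra h1
    exact hOodd o ho (by rw [← orderOf_coe o]; exact orderOf_two_of hw h1)
  set tT : T := ⟨t, hp.htT⟩ with htT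
  set sT : T := ⟨s, hsT⟩ with hsT'
  have ht' : orderOf tT = 2 := by rw [← orderOf_coe]; exact hp.ht
  have hs' : orderOf sT = 2 := by rw [← orderOf_coe]; exact hs
  have htK : tT ∈ K := Or.inr (by simp [htT, mul_self_two hp.ht])
  have hmemC : ∀ z : T, z ∈ centralizer ({tT} : Set T) ↔ (z : G) ∈ H := fun z => by
    rw [mem_centralizer_singleton_iff, hH, mem_inf, mem_centralizer_singleton_iff, Subtype.ext_iff]
    exact ⟨fun h => ⟨z.2, h⟩, fun h => h.2⟩
  have hKH : K ≤ centralizer ({tT} : Set T) := fun k hk =>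
    (hmemC k).2 ⟨k.2, mem_centralizer_singleton_iff.2 (hKt k hk).eq⟩
  have hKab : IsMulCommutative K := by
    refine ⟨⟨?_⟩⟩
    rintro ⟨a, ha⟩ ⟨b, hb⟩
    apply Subtype.ext; apply Subtype.ext
    show (a : G) * b = b * a
    have hco : ∀ p ∈ OG, ∀ q ∈ OG, Commute p q := by
      rintro _ ⟨o, ho, rfl⟩ _ ⟨o', ho', rfl⟩; exact hOcomm o o' ho ho'
    have hform : ∀ k ∈ K, ∃ p ∈ OG, ((k : T) : G) = p ∨ ((k : T) : G) = p * t := by
      rintro k (hk | hk)
      · exact ⟨_, hk, Or.inl rfl⟩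
      · exact ⟨_, hk, Or.inr (by rw [mul_assoc, mul_self_two hp.ht, mul_one])⟩
    obtain ⟨p, hp', ea⟩ := hform a ha
    obtain ⟨q, hq', eb⟩ := hform b hb
    have h0 := hco p hp' q hq'
    have h1 := hOGt p hp'
    have h2 := hOGt q hq'
    rcases ea with ea | ea <;> rcases eb with eb | eb <;> rw [ea, eb]
    · exact h0.eq
    · exact (h0.mul_right h1).eq
    · exact (h0.mul_left h2.symm).eq
    · exact ((h0.mul_right h1).mul_left (h2.symm.mul_right (Commute.refl t))).eq
  have hsK : sT ∉ K := fun h => hne (hKinvol _ h hs)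
  have hcl : centralizer ({tT} : Set T) = K ⊔ zpowers sT := by
    refine le_antisymm ?_ (sup_le hKH (zpowers_le.2 ((hmemC sT).2 (hSH hsS))))
    intro z hz
    obtain ⟨o, ho, w, hw, e⟩ := hdecomp ⟨(z : G), (hmemC z).1 hz⟩
    have e' : (z : G) = (o : G) * (w : G) := congrArg Subtype.val e
    have hoK : (⟨(o : G), o.2.1⟩ : T) ∈ K := Or.inl ⟨o, ho, rfl⟩
    have hzw : z = ⟨(o : G), o.2.1⟩ * ⟨(w : G), w.2.1⟩ := Subtype.ext e'
    rw [hzw]
    refine mul_mem (mem_sup_left hoK) ?_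
    rcases hfour (w : G) (mem_subgroupOf.1 hw) with h | h | h | h
    · rw [show (⟨(w : G), w.2.1⟩ : T) = 1 from Subtype.ext h]; exact one_mem _
    · rw [show (⟨(w : G), w.2.1⟩ : T) = tT from Subtype.ext h]; exact mem_sup_left htK
    · rw [show (⟨(w : G), w.2.1⟩ : T) = sT from Subtype.ext h]; exact mem_sup_right (mem_zpowers _)
    · rw [show (⟨(w : G), w.2.1⟩ : T) = tT * sT from Subtype.ext h]
      exact mul_mem (mem_sup_left htK) (mem_sup_right (mem_zpowers _))
  have hKinv : ∀ k ∈ K, sT * k * sT⁻¹ = k⁻¹ := by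
    rintro k (⟨o, ho, e⟩ | ⟨o, ho, e⟩) <;> apply Subtype.ext <;>
      simp only [Subgroup.coe_mul, Subgroup.coe_inv, hsT'] <;> change (o : G) = _ at e
    · rw [← e, hOinv o ho]
    · have e' : (k : G) = (o : G) * t := by rw [e, mul_assoc, mul_self_two hp.ht, mul_one]
      rw [e', show s * ((o : G) * t) * s⁻¹ = (s * (o : G) * s⁻¹) * (s * t * s⁻¹) by group, hOinv o ho,
        hcts.symm.mul_inv_cancel, mul_inv_rev, inv_two hp.ht]
      exact ((hOt o).inv_left).eq
  have hCK : K ⊓ centralizer ({sT} : Set T) = zpowers tT := by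
    refine le_antisymm ?_ (zpowers_le.2 ⟨htK, mem_centralizer_singleton_iff.2 (Subtype.ext hcts.eq)⟩)
    rintro k ⟨hk, hkc⟩
    have h1 : k * k = 1 := by
      have h2 : Commute sT k := (mem_centralizer_singleton_iff.1 hkc).symm
      rw [← eq_inv_iff_mul_eq_one, ← hKinv k hk, h2.mul_inv_cancel]
    by_cases hk1 : k = 1
    · rw [hk1]; exact one_mem _
    · rw [show k = tT from Subtype.ext (hKinvol k hk (by
        rw [orderOf_coe]; exact orderOf_two_of h1 hk1))]
      exact mem_zpowers _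
  have hTI : ∀ g : T, g ∉ centralizer ({tT} : Set T) → K ⊓ K.map (MulAut.conj g).toMonoidHom = ⊥ := by
    intro g hg
    rw [eq_bot_iff]
    rintro w ⟨hw, hw'⟩
    rw [mem_bot]
    by_contra hw1
    obtain ⟨q, hq, hqd⟩ := Nat.exists_prime_and_dvd (mt orderOf_eq_one_iff.1 hw1)
    haveI := Fact.mk hq
    obtain ⟨y, hy⟩ := exists_prime_orderOf_dvd_card' (G := zpowers w) q (by rwa [Nat.card_zpowers])
    have hyK : (y : T) ∈ K ∧ (y : T) ∈ K.map (MulAut.conj g).toMonoidHom :=
      ⟨(zpowers_le.2 hw) y.2, (zpowers_le.2 hw') y.2⟩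
    obtain ⟨y', hy'K, hyy⟩ := hyK.2
    have hyy' : ((y : T) : G) = (g : G) * (y' : G) * (g : G)⁻¹ := by
      rw [← hyy]; simp
    have hyo : orderOf ((y : T) : G) = q := by rw [orderOf_coe, orderOf_coe, hy]
    apply hg
    rw [hmemC, hH]
    refine ⟨g.2, mem_centralizer_singleton_iff.2 (mul_inv_eq_iff_eq_mul.1 ?_)⟩
    by_cases hq2 : q = 2
    · subst hq2
      have h1 := hKinvol _ hyK.1 hyo
      have h2 := hKinvol y' hy'K (by
        rw [hyy'] at hyo
        exact (orderOf_injective (MulAut.conj (g : G)).toMonoidHom (MulAut.conj (g : G)).injective _).symm.trans hyo)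
      rw [← h2, ← hyy', h1, h2]
    · have hpy : Pair T t ((y : T) : G) q :=
        ⟨hp.htT, hp.ht, (y : T).2, hq, hq2, hyo, (hKt _ hyK.1).symm⟩
      refine hpy.unique hS (hS.normal.conj_mem t hp.htT _) (orderOf_two_conj hp.ht _) ?_
      rw [hyy']
      exact ((hKt y' hy'K).symm.map (MulAut.conj (g : G)).toMonoidHom :)
  have hone : ∀ a b : T, orderOf a = 2 → orderOf b = 2 → IsConj a b := by
    have hST : S ≤ T := fun w hw => (hSle hw).1
    have hsy : ¬ 2 ∣ (S.subgroupOf T).index :=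
      two_not_dvd_index (hS2.of_equiv (subgroupOfEquivOfLe hST).symm) fun a ha ⟨m, hm⟩ =>
        mem_subgroupOf.2 (hmem a a.2
          (fun b hb => mem_subgroupOf.1 ((mem_normalizer_iff.1 ha ⟨b, hST hb⟩).1 (mem_subgroupOf.2 hb)))
          ⟨m, by rw [orderOf_coe, hm]⟩)
    set PT : Sylow 2 T := (hS2.of_equiv (subgroupOfEquivOfLe hST).symm).toSylow hsy with hPT
    have key : ∀ a : T, orderOf a = 2 → IsConj a tT := by
      intro a ha
      obtain ⟨R, hR⟩ := (isPGroup_zpowers_of_orderOf (m := 1) (by simpa using ha) :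
        IsPGroup 2 (zpowers a)).exists_le_sylow
      obtain ⟨k, hk⟩ := MulAction.exists_smul_eq T R PT
      have hmemS : ((k * a * k⁻¹ : T) : G) ∈ S := by
        have : k * a * k⁻¹ ∈ (PT : Subgroup T) := by
          rw [← hk, Sylow.coe_subgroup_smul]
          exact ⟨a, hR (mem_zpowers a), rfl⟩
        rw [hPT, IsPGroup.toSylow_coe] at this
        exact mem_subgroupOf.1 this
      have hord : orderOf ((k * a * k⁻¹ : T) : G) = 2 := by
        rw [orderOf_coe]; exact orderOf_two_conj ha k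
      set nT : T := ⟨n, hnT⟩ with hnT'
      rcases hfour _ hmemS with h | h | h | h
      · rw [h, orderOf_one] at hord; norm_num at hord
      · exact isConj_iff.2 ⟨k, Subtype.ext h⟩
      · refine (isConj_iff.2 ⟨k, rfl⟩).trans (isConj_iff.2 ⟨nT * nT, Subtype.ext ?_⟩)
        simp only [Subgroup.coe_mul, Subgroup.coe_inv, hnT', htT] at h ⊢
        rw [h, show n * n * s * (n * n)⁻¹ = n * (n * s * n⁻¹) * n⁻¹ by group, hns, hnu]
      · refine (isConj_iff.2 ⟨k, rfl⟩).trans (isConj_iff.2 ⟨nT, Subtype.ext ?_⟩)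
        simp only [Subgroup.coe_mul, Subgroup.coe_inv, hnT', htT] at h ⊢
        rw [h, hnu]
    exact fun a b ha hb => (key a ha).trans (key b hb).symm
  haveI := hS.simple
  rcases CfsgLib.BSWId.psl_or_card_twelve tT ht' K hKab hKH htK sT hs' ((hmemC sT).2 (hSH hsS)) hsK
    hcl.symm hCK hKinv hTI hone with h12 | h
  · exact (CfsgLib.BSWId.not_simple_twelve h12).elim
  · exact h

end CfsgLib.MaxNorm
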