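import Cfsg.Agent.MaxNorm.Basic
import Cfsg.Agent.ZJ.Replacement

/-!
# Lifting the hypothesis over a simple quotient
-/

set_option autoImplicit false
set_option linter.style.haveILetI false
set_option linter.unusedSectionVars false

namespace CfsgLib.MaxNorm

open Subgroup
open scoped commutatorElement

universe u v

variable {G : Type u} [Group G] [Finite G] {Q : Type v} [Group Q] [Finite Q]

/-- A solvable kernel over a simple nonsolvable quotient. -/
structure Over (π : G →* Q) : Prop where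
  hyp : Hyp G
  surj : Function.Surjective π
  ker_solv : Group.IsSolvable π.ker
  simple : IsSimpleGroup Q
  not_solv : ¬ Group.IsSolvable Q

variable {π : G →* Q} (o : Over π)

include o

theorem Over.not_normal {X : Subgroup Q} (h1 : X ≠ ⊥) (hs : Group.IsSolvable X) : ¬ X.Normal := by
  intro hN
  haveI := o.simple
  rcases IsSimpleGroup.eq_bot_or_eq_top_of_normal X hN with e | e
  · exact h1 e
  · subst e
    exact o.not_solv (Group.isSolvable_of_isSolvable_injective (f := (topEquiv (G := Q)).symm.toMonoidHom)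
      (topEquiv (G := Q)).symm.injective)

/-- The normaliser of a small subgroup outside the kernel is the preimage of the normaliser of its image. -/
theorem Over.normalizer_eq {H : Subgroup G} (h2 : TwoPrimes (Nat.card H)) (h1 : H.map π ≠ ⊥) :
    normalizer (H : Set G) = (normalizer ((H.map π : Subgroup Q) : Set Q)).comap π := by
  have h2' : TwoPrimes (Nat.card (H.map π)) := h2.of_dvd (card_map_dvd H π)
  have hsn : ¬ H.IsSubnormal := fun hs => by
    haveI := o.simple
    rcases IsSubnormal.eq_bot_or_top_of_isSimpleGroup o.simple (hs.map o.surj) with e | e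
    · exact h1 e
    · exact o.not_solv (isSolvable_of_twoPrimes (by rw [← Subgroup.card_top, ← e]; exact h2'))
  have hco := o.hyp H hsn h2
  have hle : normalizer (H : Set G) ≤ (normalizer ((H.map π : Subgroup Q) : Set Q)).comap π := by
    intro g hg
    rw [mem_comap]
    refine le_normalizer_map π ⟨g, hg, rfl⟩
  refine ((hco.le_iff.1 hle).resolve_left fun e => ?_).symm
  refine o.not_normal h1 (isSolvable_of_twoPrimes h2') (normalizer_eq_top_iff.1
    (comap_injective o.surj (e.trans (comap_top π).symm)))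

theorem Over.ker_le_normalizer {H : Subgroup G} (h2 : TwoPrimes (Nat.card H)) (h1 : H.map π ≠ ⊥) :
    π.ker ≤ normalizer (H : Set G) := by
  rw [o.normalizer_eq h2 h1]
  intro g hg
  rw [mem_comap, MonoidHom.mem_ker.1 hg]
  exact one_mem _

/-- A minimal normal subgroup covering the quotient is perfect. -/
theorem Over.exists_core : ∃ K : Subgroup G, K.Normal ∧ K.map π = ⊤ ∧ ⁅K, K⁆ = K ∧
    ∀ L : Subgroup G, L.Normal → L.map π = ⊤ → K ≤ L := by
  obtain ⟨K, ⟨hKn, hKm⟩, hmin⟩ := Set.Finite.exists_minimal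
    (Set.toFinite {N : Subgroup G | N.Normal ∧ N.map π = ⊤})
    ⟨⊤, (inferInstance : (⊤ : Subgroup G).Normal), Subgroup.map_top_of_surjective π o.surj⟩
  haveI := hKn
  have hQ : ⁅(⊤ : Subgroup Q), (⊤ : Subgroup Q)⁆ = (⊤ : Subgroup Q) := by
    haveI := o.simple
    refine (IsSimpleGroup.eq_bot_or_eq_top_of_normal (commutator Q) inferInstance).resolve_left fun h => ?_
    refine o.not_solv (Group.isSolvable_of_comm fun a b => ?_)
    have h' : ⁅a, b⁆ ∈ commutator Q := commutator_mem_commutator (mem_top _) (mem_top _)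
    rw [h, mem_bot] at h'
    exact commutatorElement_eq_one_iff_mul_comm.1 h'
  have hc : ∀ L : Subgroup G, L.Normal → L.map π = ⊤ → K ≤ ⁅K, L⁆ := by
    intro L hL hLm
    haveI := hL
    refine hmin ⟨inferInstance, ?_⟩ (commutator_le_left K L)
    rw [map_commutator, hKm, hLm, hQ]
  exact ⟨K, hKn, hKm, le_antisymm (commutator_le_left K K) (hc K hKn hKm),
    fun L hL hLm => (hc L hL hLm).trans (by haveI := hL; exact commutator_le_right K L)⟩

theorem Over.exists_lift {p : ℕ} [Fact p.Prime] {y : Q} (hy : orderOf y = p) (K : Subgroup G)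
    (hK : K.map π = ⊤) : ∃ x ∈ K, π x ≠ 1 ∧ ∃ a : ℕ, orderOf x = p ^ a := by
  obtain ⟨g, hg, hgy⟩ : y ∈ K.map π := hK ▸ mem_top y
  have hp : p.Prime := Fact.out
  have h0 : orderOf g ≠ 0 := (orderOf_pos g).ne'
  refine ⟨g ^ ordCompl[p] (orderOf g), pow_mem hg _, fun h => ?_, (orderOf g).factorization p, ?_⟩
  · rw [map_pow, hgy, ← orderOf_dvd_iff_pow_eq_one, hy] at h
    exact Nat.not_dvd_ordCompl hp h0 h
  · rw [orderOf_pow_of_dvd (Nat.ordCompl_pos p h0).ne' (Nat.ordCompl_dvd _ _)]
    exact Nat.div_div_self (Nat.ordProj_dvd _ _) h0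

/-- Modulo a `p`-group the kernel is centralised by the core. -/
theorem Over.core_commutator {K : Subgroup G}
    (hKL : ∀ L : Subgroup G, L.Normal → L.map π = ⊤ → K ≤ L) {p : ℕ} [Fact p.Prime] {y : Q}
    (hy : orderOf y = p) {k r : G} (hk : k ∈ K) (hr : r ∈ π.ker) :
    ∃ a : ℕ, orderOf (⁅r, k⁆) = p ^ a := by
  classical
  set R := π.ker with hR
  have hRn : R.Normal := MonoidHom.normal_ker π
  set O := (Cfsg.pCore p R).map R.subtype with hO
  haveI hOc : (Cfsg.pCore p R).Characteristic := characteristic_iff_map_le.2 fun φ =>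
    CfsgLib.Solvable.le_pCore p ((CfsgLib.Solvable.pCore_normal (p := p)).map φ.toMonoidHom φ.surjective)
      ((CfsgLib.Solvable.isPGroup_pCore p).map φ.toMonoidHom)
  haveI hOn : O.Normal := inferInstance
  set m := QuotientGroup.mk' O with hm
  haveI : (R.map m).Normal := hRn.map m (QuotientGroup.mk'_surjective O)
  set L := (centralizer (R.map m : Set (G ⧸ O))).comap m with hL
  have hLn : L.Normal := inferInstance
  obtain ⟨x, -, hx1, a, hxa⟩ := o.exists_lift hy ⊤ (Subgroup.map_top_of_surjective π o.surj)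
  have hxL : x ∈ L := by
    rw [hL, mem_comap, mem_centralizer_iff]
    rintro _ ⟨w, hw, rfl⟩
    have h2 : TwoPrimes (Nat.card (zpowers x)) := by
      rw [Nat.card_zpowers, hxa]; exact twoPrimes_pow Fact.out a
    have hne : (zpowers x).map π ≠ ⊥ := fun h => hx1 (mem_bot.1 (h ▸ mem_map_of_mem π (mem_zpowers x)))
    have hRN := o.ker_le_normalizer h2 hne
    set I := (zpowers x).subgroupOf R with hI
    haveI : I.Normal := by
      refine ⟨fun i hi g => ?_⟩
      exact (mem_normalizer_iff.1 (hRN g.2) (i : G)).1 hi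
    have hIp : IsPGroup p I := by
      have hxp : IsPGroup p (zpowers x) := IsPGroup.of_card (n := a) (by rw [Nat.card_zpowers, hxa])
      intro i
      obtain ⟨j, hj⟩ := hxp ⟨((i : R) : G), i.2⟩
      have hj' := congrArg Subtype.val hj
      simp only [SubmonoidClass.coe_pow, OneMemClass.coe_one] at hj'
      exact ⟨j, Subtype.ext (Subtype.ext (by simpa using hj'))⟩
    have hmem : w * x * w⁻¹ * x⁻¹ ∈ zpowers x :=
      mul_mem ((mem_normalizer_iff.1 (hRN hw) x).1 (mem_zpowers x)) (inv_mem (mem_zpowers x))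
    have hmemR : w * x * w⁻¹ * x⁻¹ ∈ R := by
      rw [show w * x * w⁻¹ * x⁻¹ = w * (x * w⁻¹ * x⁻¹) by group]
      exact mul_mem hw (hRn.conj_mem _ (inv_mem hw) x)
    have hO' : w * x * w⁻¹ * x⁻¹ ∈ O :=
      ⟨⟨_, hmemR⟩, CfsgLib.Solvable.le_pCore p inferInstance hIp hmem, rfl⟩
    have h1 : m (w * x * w⁻¹ * x⁻¹) = 1 := (QuotientGroup.eq_one_iff _).2 hO'
    rwa [map_mul, map_mul, map_mul, map_inv, map_inv, mul_inv_eq_one, mul_inv_eq_iff_eq_mul] at h1
  have hLm : L.map π = ⊤ := by
    haveI := o.simple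
    refine (IsSimpleGroup.eq_bot_or_eq_top_of_normal _ (hLn.map π o.surj)).resolve_left fun h => hx1 ?_
    exact mem_bot.1 (h ▸ mem_map_of_mem π hxL)
  have hkL := hKL L hLn hLm hk
  have hc : ⁅r, k⁆ ∈ O := by
    rw [← QuotientGroup.eq_one_iff]
    show m ⁅r, k⁆ = 1
    rw [map_commutatorElement, commutatorElement_eq_one_iff_mul_comm]
    exact mem_centralizer_iff.1 hkL (m r) (mem_map_of_mem m hr)
  obtain ⟨b, hb, hbe⟩ := hc
  obtain ⟨n, hn⟩ := IsPGroup.iff_orderOf.1 (CfsgLib.Solvable.isPGroup_pCore (G := R) p) ⟨b, hb⟩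
  exact ⟨n, by rw [← hbe, R.coe_subtype, orderOf_coe]; exact (Subgroup.orderOf_mk b hb).symm.trans hn⟩

/-- The core centralises the kernel. -/
theorem Over.core_centralizes {K : Subgroup G}
    (hKL : ∀ L : Subgroup G, L.Normal → L.map π = ⊤ → K ≤ L) {p q : ℕ} [Fact p.Prime] [Fact q.Prime]
    (hpq : p ≠ q) {y z : Q} (hy : orderOf y = p) (hz : orderOf z = q) {k r : G} (hk : k ∈ K) (hr : r ∈ π.ker) :
    Commute r k := by
  obtain ⟨a, ha⟩ := o.core_commutator hKL hy hk hr
  obtain ⟨b, hb⟩ := o.core_commutator hKL hz hk hr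
  have h : orderOf ⁅r, k⁆ = 1 := Nat.eq_one_of_dvd_coprimes
    (((Nat.coprime_primes Fact.out Fact.out).2 hpq).pow a b) (dvd_of_eq ha) (dvd_of_eq hb)
  exact commutatorElement_eq_one_iff_mul_comm.1 (orderOf_eq_one_iff.1 h)

end CfsgLib.MaxNorm
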